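import Groth.Agent.Lib.Omega12.Finite
import Groth.Agent.Lib.SmoothLift15.Main
import Groth.Agent.Lib.DPerf.Top
import Groth.Agent.Lib.DPerf.Tilde
import Mathlib.RingTheory.Smooth.StandardSmoothCotangent

/-!
# Differentials of (formally) smooth morphisms are locally free

`isFinLocFree_receptacle_of_formallySmooth`, `isFinLocFree_receptacle_of_smooth`,
`isFinLocFreeOfRank_receptacle_of_smooth`.
-/

set_option autoImplicit false
set_option backward.isDefEq.respectTransparency false
set_option backward.isDefEq.respectTransparency.types false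
set_option linter.style.haveILetI false

universe u

open CategoryTheory CategoryTheory.Limits AlgebraicGeometry TopologicalSpace Opposite

namespace Groth.Agent.Omega12

/-- A quasi-coherent module on an affine open is the tilde of its sections. -/
theorem nonempty_restrict_fromSpec_iso {X : Scheme.{u}} {M : X.Modules} (hM : Coh.IsQCoh M)
    {U : X.Opens} (hU : IsAffineOpen U) (N : ModuleCat.{u} Γ(X, U)) (e : Γ(M, U) ≃ₗ[Γ(X, U)] N) :
    Nonempty (M.restrict hU.fromSpec ≅ (tilde.functor Γ(X, U)).obj N) := by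
  haveI := M1.isQCoh_fromSpec hM hU
  haveI : IsIso (M.restrict hU.fromSpec).fromTildeΓ :=
    Scheme.Modules.isIso_fromTildeΓ_of_isQuasicoherent (R := Γ(X, U)) _
  exact ⟨(asIso (M.restrict hU.fromSpec).fromTildeΓ).symm ≪≫ (tilde.functor Γ(X, U)).mapIso
    (LinearEquiv.toModuleIso ((M1.affineSecEquiv M hU).trans e))⟩

variable {X Y : Scheme.{u}} (f : X ⟶ Y) {Ω : X.Modules} {d : OmegaSh.Der f Ω} (hd : OmegaSh.IsUniversal d)

include hd in
theorem isFinLocFree_receptacle_of_formallySmooth (hf : MoreMor.IsFormallySmoothHom f) [LocallyOfFiniteType f] :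
    FlatMod.IsFinLocFree Ω := by
  refine DPerf.isFinLocFree_of_locally fun x => ?_
  obtain ⟨V, U, hV, hU, hxU, -, hle⟩ := Omega26.exists_chart f x ⊤ trivial
  refine ⟨_, hU.fromSpec, inferInstance, hU.range_fromSpec.ge hxU, ?_⟩
  letI := (f.appLE V U hle).hom.toAlgebra
  haveI : Algebra.FiniteType Γ(Y, V) Γ(X, U) := f.finiteType_appLE hV hU hle
  haveI : Algebra.FormallySmooth Γ(Y, V) Γ(X, U) := SmoothLift15.formallySmooth_appLE f hf hU hV hle
  obtain ⟨e⟩ := nonempty_restrict_fromSpec_iso (isQCoh_receptacle f hd) hU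
    (ModuleCat.of Γ(X, U) (KaehlerDifferential Γ(Y, V) Γ(X, U))) (sectLinEquiv f hd hU hV hle).symm
  exact M2.isFinLocFree_of_iso e.symm DPerf.isFinLocFree_tilde

include hd in
theorem isFinLocFree_receptacle_of_smooth [Smooth f] : FlatMod.IsFinLocFree Ω :=
  isFinLocFree_receptacle_of_formallySmooth f hd (SmoothLift15.isFormallySmoothHom_of_smooth f)

include hd in
theorem isFinLocFreeOfRank_receptacle_of_smooth (n : ℕ) [SmoothOfRelativeDimension n f] :
    FlatMod.IsFinLocFreeOfRank n Ω := by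
  intro x
  obtain ⟨V, hV, U, hU, hxU, hle, hs⟩ :=
    SmoothOfRelativeDimension.exists_isStandardSmoothOfRelativeDimension (n := n) (f := f) x
  letI := (f.appLE V U hle).hom.toAlgebra
  haveI : Algebra.IsStandardSmoothOfRelativeDimension n Γ(Y, V) Γ(X, U) := hs
  haveI : Algebra.IsStandardSmooth Γ(Y, V) Γ(X, U) :=
    Algebra.IsStandardSmoothOfRelativeDimension.isStandardSmooth n
  haveI : Nonempty (U.toScheme) := ⟨⟨x, hxU⟩⟩
  haveI : Nontrivial Γ(X, U) := Scheme.component_nontrivial X U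
  have hr : Module.rank Γ(X, U) (KaehlerDifferential Γ(Y, V) Γ(X, U)) = n :=
    Algebra.IsStandardSmoothOfRelativeDimension.rank_kaehlerDifferential n
  let b := (Module.finBasisOfFinrankEq Γ(X, U) (KaehlerDifferential Γ(Y, V) Γ(X, U))
    (Module.finrank_eq_of_rank_eq hr)).reindex Equiv.ulift.{u}.symm
  obtain ⟨e⟩ := nonempty_restrict_fromSpec_iso (isQCoh_receptacle f hd) hU
    (ModuleCat.of Γ(X, U) (ULift.{u} (Fin n) →₀ Γ(X, U))) ((sectLinEquiv f hd hU hV hle).symm.trans b.repr)
  obtain ⟨z, hz⟩ := hU.range_fromSpec.ge hxU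
  obtain ⟨W, m, hW, hiso⟩ := M1.exists_freeMod_of_openImmersion hU.fromSpec (e ≪≫ M1.frTildeIso _) z
  obtain ⟨e'⟩ := M1.nonempty_fr_freeMod (hU.fromSpec.opensRange : Scheme.{u}) (ULift.{u} (Fin n))
  refine ⟨hU.fromSpec.opensRange, ⟨z, hz⟩, ?_⟩
  have h : Set.range hU.fromSpec.opensRange.ι ⊆ Set.range hU.fromSpec := by rw [Scheme.Opens.range_ι]; rfl
  rw [Nat.card_ulift, Nat.card_fin] at e'
  exact ⟨(M1.restrictLiftIso _ hU.fromSpec hU.fromSpec.opensRange.ι h).symm ≪≫
    (Scheme.Modules.restrictFunctor (IsOpenImmersion.lift hU.fromSpec hU.fromSpec.opensRange.ι h)).mapIso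
      (e ≪≫ M1.frTildeIso _) ≪≫ (M1.frRestrictIso _ _).symm ≪≫ e'⟩

end Groth.Agent.Omega12
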