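import Groth.Agent.Lib.Omega26.Basic
import Groth.Agent.Lib.KoszShH13.Glue
import Groth.Prelude.Def_OmAff
import Groth.Prelude.Def_Omega4

/-!
# Universality of the derivation into the sheaf of differentials

`isUniversal_dOmega`; morphisms out of a receptacle of a universal derivation are determined by their values on
differentials (`hom_ext_der`); any receptacle is isomorphic to `Omega.sheaf f` (`exists_iso_sheaf`).
-/

set_option autoImplicit false
set_option backward.isDefEq.respectTransparency false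
set_option backward.isDefEq.respectTransparency.types false
set_option linter.style.haveILetI false

universe u

open CategoryTheory CategoryTheory.Limits AlgebraicGeometry TopologicalSpace Opposite

namespace Groth.Agent.Omega12

variable {X Y : Scheme.{u}} (f : X ⟶ Y)

/-- Affine opens contained in the preimage of an affine open of the base. -/
def IsChart (U : X.affineOpens) : Prop := ∃ V : Y.Opens, IsAffineOpen V ∧ U.1 ≤ f ⁻¹ᵁ V

theorem isAffBasis_chart : KoszShH13.IsAffBasis (IsChart f) := fun O x hx => by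
  obtain ⟨V, U, hV, hU, hxU, hUO, hUV⟩ := Omega26.exists_chart f x O hx
  exact ⟨⟨U, hU⟩, ⟨V, hV, hUV⟩, hxU, hUO⟩

/-- A derivation on sections over a chart. -/
noncomputable def derChart {F : X.Modules} (D : OmegaSh.Der f F) (V : Y.Opens) (U : X.Opens)
    (h : U ≤ f ⁻¹ᵁ V) : (OmAff.sectMod F U).Derivation (f.appLE V U h) :=
  ModuleCat.Derivation.mk (fun b => D.app U b) (fun a b => map_add (D.app U) a b)
    (fun a b => D.d_mul (X := op U) a b) (fun c => by
      show D.app U (X.presheaf.map (homOfLE h).op (f.app V c)) = 0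
      refine (D.d_map (homOfLE h).op (f.app V c)).trans ?_
      rw [show D.d (X := op (f ⁻¹ᵁ V)) (f.app V c) = 0 from D.d_app (X := op V) c]
      exact map_zero _)

variable [QuasiSeparated f]

/-- The comparison with Kähler differentials on a chart. -/
theorem bijective_toSect {U : X.Opens} (hU : IsAffineOpen U) {V : Y.Opens} (hV : IsAffineOpen V)
    (h : U ≤ f ⁻¹ᵁ V) : Function.Bijective (OmAff.toSect f V U h) :=
  (Omega26.sectEquiv f hU hV h).bijective

/-- Two semilinear maps on the sections over a chart agreeing on differentials are equal. -/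
theorem sect_ext {U : X.Opens} (hU : IsAffineOpen U) {V : Y.Opens} (hV : IsAffineOpen V) (h : U ≤ f ⁻¹ᵁ V)
    {A : Type u} [AddCommGroup A] {R : Type u} [CommRing R] [Module R A] (σ : Γ(X, U) →+* R)
    (l l' : Γ(Omega.sheaf f, U) →+ A)
    (hl : ∀ r x, l (r • x) = σ r • l x) (hl' : ∀ r x, l' (r • x) = σ r • l' x)
    (hd : ∀ b, l (OmegaSh.dSect f U b) = l' (OmegaSh.dSect f U b)) : l = l' := by
  refine AddMonoidHom.ext fun z => ?_
  obtain ⟨x, rfl⟩ := (bijective_toSect f hU hV h).2 z
  letI := (f.appLE V U h).hom.toAlgebra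
  have hx : x ∈ Submodule.span Γ(X, U) (Set.range (KaehlerDifferential.D Γ(Y, V) Γ(X, U))) := by
    rw [KaehlerDifferential.span_range_derivation]; trivial
  induction hx using Submodule.span_induction with
  | mem y hy =>
    obtain ⟨b, rfl⟩ := hy
    rw [show (OmAff.toSect f V U h) (KaehlerDifferential.D Γ(Y, V) Γ(X, U) b) = OmegaSh.dSect f U b from
      OmAff.toSect_d f V U h b]
    exact hd b
  | zero => simp
  | add y z _ _ hy hz => simp only [map_add, hy, hz]
  | smul r y _ hy => rw [map_smul, hl, hl', hy]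

theorem postcomp_app {Ω F : X.Modules} (d : OmegaSh.Der f Ω) (α : Ω ⟶ F) (U : X.Opens) (s : Γ(X, U)) :
    OmegaSh.Der.app (f := f) (F := F) (d.postcomp α.val) U s = α.app U (d.app U s) := rfl

omit [QuasiSeparated f] in
theorem der_ext {F : X.Modules} {D D' : OmegaSh.Der f F} (h : ∀ U s, D.app U s = D'.app U s) : D = D' := by
  cases D with | mk d _ _ _ => cases D' with | mk d' _ _ _ =>
  congr 1
  funext W
  exact AddMonoidHom.ext fun s => h W.unop s

omit [QuasiSeparated f] in
theorem hom_ext_der {Ω : X.Modules} {d : OmegaSh.Der f Ω} (hd : OmegaSh.IsUniversal d) {F : X.Modules}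
    {α β : Ω ⟶ F} (h : ∀ U s, α.app U (d.app U s) = β.app U (d.app U s)) : α = β :=
  (hd F (d.postcomp β.val)).unique (der_ext f fun U s => h U s) rfl

theorem isUniversal_dOmega : OmegaSh.IsUniversal (OmegaSh.dOmega f) := by
  intro F D
  have key : ∀ U : X.affineOpens, IsChart f U → ∃ l : Γ(Omega.sheaf f, U.1) →+ Γ(F, U.1),
      (∀ (r : Γ(X, U.1)) (x : Γ(Omega.sheaf f, U.1)), l (r • x) = r • l x) ∧ ∀ s, l (OmegaSh.dSect f U.1 s) = D.app U.1 s := by
    rintro U ⟨V, hV, h⟩
    let T := OmAff.toSect f V U.1 h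
    haveI : IsIso T := (ConcreteCategory.isIso_iff_bijective T).2 (bijective_toSect f U.2 hV h)
    let L := inv T ≫ (derChart f D V U.1 h).desc
    refine ⟨L.hom.toAddMonoidHom, fun r x => L.hom.map_smul r x, fun s => ?_⟩
    show (inv T ≫ (derChart f D V U.1 h).desc) (OmegaSh.dSect f U.1 s) = _
    rw [← OmAff.toSect_d f V U.1 h s, ← CategoryTheory.comp_apply, IsIso.hom_inv_id_assoc]
    exact (derChart f D V U.1 h).desc_d s
  choose l hsmul hl using key
  obtain ⟨φ, hφ⟩ := KoszShH13.exists_glue (isAffBasis_chart f) l hsmul (fun U hU W hW hle m => by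
    obtain ⟨V, hV, h⟩ := hU
    refine DFunLike.congr_fun (sect_ext f U.2 hV h (X.presheaf.map (homOfLE hle).op).hom
      ((M1.mres F hle).hom.comp (l U _)) ((l W hW).comp (M1.mres (Omega.sheaf f) hle).hom) ?_ ?_ ?_) m
    · intro r x
      show M1.mres F hle (l U _ (r • x)) = _
      rw [hsmul, M1.mres_smul]
      rfl
    · intro r x
      show l W hW (M1.mres _ hle (r • x)) = _
      rw [M1.mres_smul, hsmul]
      rfl
    · intro b
      show M1.mres F hle (l U _ (OmegaSh.dSect f U.1 b)) = l W hW (M1.mres _ hle (OmegaSh.dSect f U.1 b))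
      rw [hl, show M1.mres (Omega.sheaf f) hle (OmegaSh.dSect f U.1 b) =
        OmegaSh.dSect f W.1 (X.presheaf.map (homOfLE hle).op b) from (OmegaSh.dSect_map f hle b).symm, hl]
      exact (D.d_map (homOfLE hle).op b).symm)
  refine ⟨φ, der_ext f fun O s => ?_, fun ψ hψ => ?_⟩
  · refine M1.section_ext _ _ fun x hx => ?_
    obtain ⟨U, hU, hxU, hUO⟩ := isAffBasis_chart f O x hx
    rw [← M1.germ_mres F hUO hxU, ← M1.germ_mres F hUO hxU, postcomp_app]
    refine congrArg _ ?_
    refine (M1.app_mres φ hUO _).symm.trans ?_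
    rw [show M1.mres (Omega.sheaf f) hUO ((OmegaSh.dOmega f).app O s) =
      OmegaSh.dSect f U.1 (X.presheaf.map (homOfLE hUO).op s) from (OmegaSh.dSect_map f hUO s).symm, hφ U hU, hl]
    exact D.d_map (homOfLE hUO).op s
  · refine KoszShH13.hom_ext_basis (isAffBasis_chart f) fun U hU m => ?_
    obtain ⟨V, hV, h⟩ := hU
    refine DFunLike.congr_fun (sect_ext f U.2 hV h (RingHom.id _) (ψ.app U.1).hom (φ.app U.1).hom
      (fun r x => Scheme.Modules.Hom.app_smul ψ r x) (fun r x => Scheme.Modules.Hom.app_smul φ r x) fun b => ?_) m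
    show ψ.app U.1 (OmegaSh.dSect f U.1 b) = φ.app U.1 (OmegaSh.dSect f U.1 b)
    rw [hφ U ⟨V, hV, h⟩, hl, ← hψ]
    rfl

omit [QuasiSeparated f] in
/-- Receptacles of universal derivations are uniquely isomorphic. -/
theorem exists_iso {Ω Ω' : X.Modules} {d : OmegaSh.Der f Ω} (hd : OmegaSh.IsUniversal d)
    {d' : OmegaSh.Der f Ω'} (hd' : OmegaSh.IsUniversal d') :
    ∃ e : Ω ≅ Ω', ∀ U s, e.hom.app U (d.app U s) = d'.app U s := by
  obtain ⟨a, ha, -⟩ := hd Ω' d'
  obtain ⟨b, hb, -⟩ := hd' Ω d
  have ha' : ∀ U s, a.app U (d.app U s) = d'.app U s := fun U s => by rw [← ha]; rfl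
  have hb' : ∀ U s, b.app U (d'.app U s) = d.app U s := fun U s => by rw [← hb]; rfl
  refine ⟨⟨a, b, hom_ext_der f hd fun U s => ?_, hom_ext_der f hd' fun U s => ?_⟩, ha'⟩
  · show b.app U (a.app U (d.app U s)) = d.app U s
    rw [ha', hb']
  · show a.app U (b.app U (d'.app U s)) = d'.app U s
    rw [hb', ha']

/-- Any receptacle is `Omega.sheaf f`. -/
theorem exists_iso_sheaf {Ω : X.Modules} {d : OmegaSh.Der f Ω} (hd : OmegaSh.IsUniversal d) :
    ∃ e : Omega.sheaf f ≅ Ω, ∀ U s, e.hom.app U (OmegaSh.dSect f U s) = d.app U s :=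
  exists_iso f (isUniversal_dOmega f) hd

end Groth.Agent.Omega12
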