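import Groth.Agent.Lib.Omega12.Finite
import Groth.Agent.Lib.PullBC11.Crit
import Mathlib.RingTheory.Kaehler.TensorProduct
import Mathlib.RingTheory.Etale.Kaehler
import Mathlib.AlgebraicGeometry.Morphisms.Etale
import Groth.Agent.Lib.FlatH4.PullChart

/-!
# When the canonical map of modules of differentials is an isomorphism

`isIso_diffCompat_of_isPullback`, `isIso_diffCompat_of_etale`.
-/

set_option autoImplicit false
set_option backward.isDefEq.respectTransparency false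
set_option backward.isDefEq.respectTransparency.types false
set_option linter.style.haveILetI false

universe u

open CategoryTheory CategoryTheory.Limits AlgebraicGeometry TopologicalSpace Opposite TensorProduct

namespace Groth.Agent.Omega12

variable {X S X' S' : Scheme.{u}} {f : X ⟶ S} {f' : X' ⟶ S'} {h : X' ⟶ X} {b : S' ⟶ S}
  {Ω : X.Modules} {d : OmegaSh.Der f Ω} {Ω' : X'.Modules} {d' : OmegaSh.Der f' Ω'}

/-- The adjoint of `c`. -/
noncomputable abbrev adjMap (c : (Scheme.Modules.pullback h).obj Ω ⟶ Ω') :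
    Ω ⟶ (Scheme.Modules.pushforward h).obj Ω' :=
  (Scheme.Modules.pullbackPushforwardAdjunction h).homEquiv _ _ c

theorem adjMap_d {c : (Scheme.Modules.pullback h).obj Ω ⟶ Ω'} (hc : OmegaSh.IsDiffCompat h d d' c)
    (U : X.Opens) (s : Γ(X, U)) :
    (adjMap c).app U (d.app U s) = d'.app (h ⁻¹ᵁ U) (h.app U s) := by
  rw [adjMap, Adjunction.homEquiv_unit]
  exact hc U s

/-- One chart: if Kähler differentials base change, so do the sections of the receptacles. -/
theorem isBC_chart (hd : OmegaSh.IsUniversal d) (hd' : OmegaSh.IsUniversal d')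
    {c : (Scheme.Modules.pullback h).obj Ω ⟶ Ω'} (hc : OmegaSh.IsDiffCompat h d d' c)
    {U : X.Opens} (hU : IsAffineOpen U) {V : S.Opens} (hV : IsAffineOpen V) (hUV : U ≤ f ⁻¹ᵁ V)
    {U' : X'.Opens} (hU' : IsAffineOpen U') {V' : S'.Opens} (hV' : IsAffineOpen V') (hUV' : U' ≤ f' ⁻¹ᵁ V')
    (hle : U' ≤ h ⁻¹ᵁ U)
    [a₁ : Algebra Γ(S, V) Γ(X, U)] [a₂ : Algebra Γ(S', V') Γ(X', U')] [a₃ : Algebra Γ(X, U) Γ(X', U')]
    [Algebra Γ(S, V) Γ(S', V')] [Algebra Γ(S, V) Γ(X', U')]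
    [IsScalarTower Γ(S, V) Γ(X, U) Γ(X', U')] [IsScalarTower Γ(S, V) Γ(S', V') Γ(X', U')]
    (h₁ : algebraMap Γ(S, V) Γ(X, U) = (f.appLE V U hUV).hom)
    (h₂ : algebraMap Γ(S', V') Γ(X', U') = (f'.appLE V' U' hUV').hom)
    (h₃ : algebraMap Γ(X, U) Γ(X', U') = (h.appLE U U' hle).hom)
    (hbc : IsBaseChange Γ(X', U') (KaehlerDifferential.map Γ(S, V) Γ(S', V') Γ(X, U) Γ(X', U'))) :
    PullBC11.IsBC (adjMap c) hle := by
  have e₁ : a₁ = (f.appLE V U hUV).hom.toAlgebra := Algebra.algebra_ext a₁ _ fun r => RingHom.congr_fun h₁ r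
  have e₂ : a₂ = (f'.appLE V' U' hUV').hom.toAlgebra := Algebra.algebra_ext a₂ _ fun r => RingHom.congr_fun h₂ r
  have e₃ : a₃ = (h.appLE U U' hle).hom.toAlgebra := Algebra.algebra_ext a₃ _ fun r => RingHom.congr_fun h₃ r
  subst e₁ e₂ e₃
  letI : Algebra Γ(S, V) Γ(X, U) := (f.appLE V U hUV).hom.toAlgebra
  letI : Algebra Γ(S', V') Γ(X', U') := (f'.appLE V' U' hUV').hom.toAlgebra
  letI : Algebra Γ(X, U) Γ(X', U') := (h.appLE U U' hle).hom.toAlgebra
  letI := PullBC11.baseModule (g := h) Ω' hle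
  haveI : IsScalarTower Γ(X, U) Γ(X', U') Γ(Ω', U') := IsScalarTower.of_algebraMap_smul fun _ _ => rfl
  let e := sectLinEquiv f hd hU hV hUV
  let e' := sectLinEquiv f' hd' hU' hV' hUV'
  have key : ∀ x, PullBC11.sect (adjMap c) hle (e x) =
      e' (KaehlerDifferential.map Γ(S, V) Γ(S', V') Γ(X, U) Γ(X', U') x) := fun x => by
    have hx : x ∈ Submodule.span Γ(X, U) (Set.range (KaehlerDifferential.D Γ(S, V) Γ(X, U))) := by
      rw [KaehlerDifferential.span_range_derivation]; trivial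
    induction hx using Submodule.span_induction with
    | mem y hy =>
      obtain ⟨s, rfl⟩ := hy
      rw [KaehlerDifferential.map_D, sectLinEquiv_D, sectLinEquiv_D]
      show M1.mres Ω' hle ((adjMap c).app U (d.app U s)) = d'.app U' ((h.appLE U U' hle) s)
      rw [adjMap_d hc]
      exact (d'.d_map (homOfLE hle).op (h.app U s)).symm
    | zero => simp
    | add y z _ _ hy hz => simp only [map_add, hy, hz]
    | smul r y _ hy =>
      rw [map_smul, map_smul, map_smul, hy, ← IsScalarTower.algebraMap_smul Γ(X', U') r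
        (KaehlerDifferential.map Γ(S, V) Γ(S', V') Γ(X, U) Γ(X', U') y), map_smul, algebraMap_smul]
  show IsBaseChange Γ(X', U') (PullBC11.sect (adjMap c) hle)
  refine IsBaseChange.of_equiv ((LinearEquiv.baseChange Γ(X, U) Γ(X', U') _ _ e.symm).trans (hbc.equiv.trans e')) fun s => ?_
  show e' (hbc.equiv (1 ⊗ₜ e.symm s)) = _
  rw [hbc.equiv_tmul, one_smul, ← key, LinearEquiv.apply_symm_apply]

theorem isIso_of_charts (hd : OmegaSh.IsUniversal d) (hd' : OmegaSh.IsUniversal d')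
    (c : (Scheme.Modules.pullback h).obj Ω ⟶ Ω')
    (hloc : ∀ y : X', ∃ (U : X.Opens) (_ : IsAffineOpen U) (U' : X'.Opens) (_ : IsAffineOpen U')
      (hle : U' ≤ h ⁻¹ᵁ U), y ∈ U' ∧ PullBC11.IsBC (adjMap c) hle) : IsIso c := by
  have h2 := PullBC11.isIso_of_isBC (adjMap c) (isQCoh_receptacle f hd) (isQCoh_receptacle f' hd') hloc
  rwa [adjMap, Equiv.symm_apply_apply] at h2

theorem isBaseChange_map_of_isPushout (A A' B B' : Type u) [CommRing A] [CommRing A'] [CommRing B] [CommRing B']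
    [Algebra A B] [Algebra A' B'] [Algebra B B'] [Algebra A A'] [Algebra A B'] [IsScalarTower A B B']
    [IsScalarTower A A' B'] [Algebra.IsPushout A A' B B'] :
    IsBaseChange B' (KaehlerDifferential.map A A' B B') := by
  refine IsBaseChange.of_equiv (KaehlerDifferential.tensorKaehlerEquiv A A' B B') fun s => ?_
  have hs : s ∈ Submodule.span B (Set.range (KaehlerDifferential.D A B)) := by
    rw [KaehlerDifferential.span_range_derivation]; trivial
  induction hs using Submodule.span_induction with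
  | mem y hy =>
    obtain ⟨z, rfl⟩ := hy
    rw [KaehlerDifferential.tensorKaehlerEquiv_tmul_D, one_smul, KaehlerDifferential.map_D]
  | zero => simp
  | add y z _ _ hy hz => simp only [TensorProduct.tmul_add, map_add, hy, hz]
  | smul r y _ hy =>
    rw [← TensorProduct.smul_tmul, LinearMap.map_smul, ← hy, ← algebraMap_smul B' r (KaehlerDifferential.tensorKaehlerEquiv A A' B B' (1 ⊗ₜ y)),
      ← map_smul, TensorProduct.smul_tmul', algebraMap_smul]

/-- Base change of differentials. -/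
theorem isIso_diffCompat_of_isPullback (hsq : IsPullback h f' f b) (hd : OmegaSh.IsUniversal d)
    (hd' : OmegaSh.IsUniversal d') (c : (Scheme.Modules.pullback h).obj Ω ⟶ Ω')
    (hc : OmegaSh.IsDiffCompat h d d' c) : IsIso c := by
  refine isIso_of_charts hd hd' c fun y => ?_
  obtain ⟨V, U, hV, hU, hyU, -, hUV⟩ := Omega26.exists_chart f (h y) ⊤ trivial
  have hyV : b (f' y) ∈ V := by
    rw [← Scheme.Hom.comp_apply, ← hsq.w, Scheme.Hom.comp_apply]; exact hUV hyU
  obtain ⟨V', hV', hyV', hVle⟩ := exists_isAffineOpen_mem_and_subset (X := S') (x := f' y) (U := b ⁻¹ᵁ V) hyV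
  obtain ⟨U', hU'eq⟩ : ∃ U', U' = h ⁻¹ᵁ U ⊓ f' ⁻¹ᵁ V' := ⟨_, rfl⟩
  have hU' : IsAffineOpen U' := FlatH4.isAffineOpen_of_isPullback hsq hVle hUV hU'eq hV hV' hU
  have hpo := FlatH4.isPushout_sections hsq hVle hUV hU'eq hV hV' hU
  have hle : U' ≤ h ⁻¹ᵁ U := hU'eq ▸ inf_le_left
  have hle' : U' ≤ f' ⁻¹ᵁ V' := hU'eq ▸ inf_le_right
  refine ⟨U, hU, U', hU', hle, hU'eq ▸ ⟨hyU, hyV'⟩, ?_⟩
  letI a1 : Algebra Γ(S, V) Γ(X, U) := (f.appLE V U hUV).hom.toAlgebra
  letI a2 : Algebra Γ(S, V) Γ(S', V') := (b.appLE V V' hVle).hom.toAlgebra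
  letI a3 : Algebra Γ(X, U) Γ(X', U') := (h.appLE U U' hle).hom.toAlgebra
  letI a4 : Algebra Γ(S', V') Γ(X', U') := (f'.appLE V' U' hle').hom.toAlgebra
  letI a5 : Algebra Γ(S, V) Γ(X', U') :=
    ((algebraMap Γ(X, U) Γ(X', U')).comp (algebraMap Γ(S, V) Γ(X, U))).toAlgebra
  haveI : IsScalarTower Γ(S, V) Γ(X, U) Γ(X', U') := IsScalarTower.of_algebraMap_eq' rfl
  haveI : IsScalarTower Γ(S, V) Γ(S', V') Γ(X', U') := IsScalarTower.of_algebraMap_eq'
    (congrArg CommRingCat.Hom.hom hpo.w)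
  haveI : Algebra.IsPushout Γ(S, V) Γ(X, U) Γ(S', V') Γ(X', U') := CommRingCat.isPushout_iff_isPushout.mp hpo
  haveI : Algebra.IsPushout Γ(S, V) Γ(S', V') Γ(X, U) Γ(X', U') := .symm inferInstance
  exact isBC_chart hd hd' hc hU hV hUV hU' hV' hle' hle rfl rfl rfl
    (isBaseChange_map_of_isPushout Γ(S, V) Γ(S', V') Γ(X, U) Γ(X', U'))

theorem isBaseChange_map_of_etale (A A' B B' : Type u) [CommRing A] [CommRing A'] [CommRing B] [CommRing B']
    [Algebra A B] [Algebra A' B'] [Algebra B B'] [Algebra A A'] [Algebra A B'] [IsScalarTower A B B']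
    [IsScalarTower A A' B'] [Algebra.FormallyEtale A A'] [Algebra.FormallyEtale B B'] :
    IsBaseChange B' (KaehlerDifferential.map A A' B B') := by
  have h1 := KaehlerDifferential.isBaseChange_of_formallyEtale A B B'
  have hbij : Function.Bijective (KaehlerDifferential.map A A' B' B') := by
    refine ⟨(injective_iff_map_eq_zero _).2 fun x hx => ?_, KaehlerDifferential.map_surjective A A' B'⟩
    obtain ⟨y, rfl⟩ := ((KaehlerDifferential.exact_mapBaseChange_map A A' B') x).1 hx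
    rw [Subsingleton.elim y 0, map_zero]
  refine IsBaseChange.of_equiv (h1.equiv.trans (LinearEquiv.ofBijective _ hbij)) fun s => ?_
  show KaehlerDifferential.map A A' B' B' (h1.equiv (1 ⊗ₜ s)) = _
  rw [h1.equiv_tmul, one_smul]
  have hs : s ∈ Submodule.span B (Set.range (KaehlerDifferential.D A B)) := by
    rw [KaehlerDifferential.span_range_derivation]; trivial
  induction hs using Submodule.span_induction with
  | mem y hy =>
    obtain ⟨z, rfl⟩ := hy
    simp
  | zero => simp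
  | add y z _ _ hy hz => simp only [map_add, hy, hz]
  | smul r y _ hy =>
    refine (congrArg _ (LinearMap.map_smul _ r y)).trans ?_
    rw [← algebraMap_smul B' r, LinearMap.map_smul, algebraMap_smul, hy, LinearMap.map_smul]

/-- Differentials and étale localisation. -/
theorem isIso_diffCompat_of_etale [Etale h] [Etale b] (hsq : h ≫ f = f' ≫ b) (hd : OmegaSh.IsUniversal d)
    (hd' : OmegaSh.IsUniversal d') (c : (Scheme.Modules.pullback h).obj Ω ⟶ Ω')
    (hc : OmegaSh.IsDiffCompat h d d' c) : IsIso c := by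
  refine isIso_of_charts hd hd' c fun y => ?_
  obtain ⟨V, U, hV, hU, hyU, -, hUV⟩ := Omega26.exists_chart f (h y) ⊤ trivial
  have hyV : b (f' y) ∈ V := by
    rw [← Scheme.Hom.comp_apply, ← hsq, Scheme.Hom.comp_apply]; exact hUV hyU
  obtain ⟨V', hV', hyV', hVle⟩ := exists_isAffineOpen_mem_and_subset (X := S') (x := f' y) (U := b ⁻¹ᵁ V) hyV
  obtain ⟨U', hU', hyU', hU'le⟩ :=
    exists_isAffineOpen_mem_and_subset (X := X') (x := y) (U := h ⁻¹ᵁ U ⊓ f' ⁻¹ᵁ V') ⟨hyU, hyV'⟩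
  have hle : U' ≤ h ⁻¹ᵁ U := fun z hz => (hU'le hz).1
  have hle' : U' ≤ f' ⁻¹ᵁ V' := fun z hz => (hU'le hz).2
  refine ⟨U, hU, U', hU', hle, hyU', ?_⟩
  letI a1 : Algebra Γ(S, V) Γ(X, U) := (f.appLE V U hUV).hom.toAlgebra
  letI a2 : Algebra Γ(S, V) Γ(S', V') := (b.appLE V V' hVle).hom.toAlgebra
  letI a3 : Algebra Γ(X, U) Γ(X', U') := (h.appLE U U' hle).hom.toAlgebra
  letI a4 : Algebra Γ(S', V') Γ(X', U') := (f'.appLE V' U' hle').hom.toAlgebra
  letI a5 : Algebra Γ(S, V) Γ(X', U') :=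
    ((algebraMap Γ(X, U) Γ(X', U')).comp (algebraMap Γ(S, V) Γ(X, U))).toAlgebra
  haveI : IsScalarTower Γ(S, V) Γ(X, U) Γ(X', U') := IsScalarTower.of_algebraMap_eq' rfl
  haveI : IsScalarTower Γ(S, V) Γ(S', V') Γ(X', U') := IsScalarTower.of_algebraMap_eq' (by
    refine congrArg CommRingCat.Hom.hom (?_ : f.appLE V U hUV ≫ h.appLE U U' hle = b.appLE V V' hVle ≫ f'.appLE V' U' hle')
    rw [Scheme.Hom.appLE_comp_appLE, Scheme.Hom.appLE_comp_appLE]
    exact OmegaSh.appLE_congr_hom hsq _ _)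
  haveI : Algebra.Etale Γ(S, V) Γ(S', V') :=
    HasRingHomProperty.appLE (P := @Etale) b inferInstance ⟨V, hV⟩ ⟨V', hV'⟩ hVle
  haveI : Algebra.Etale Γ(X, U) Γ(X', U') :=
    HasRingHomProperty.appLE (P := @Etale) h inferInstance ⟨U, hU⟩ ⟨U', hU'⟩ hle
  exact isBC_chart hd hd' hc hU hV hUV hU' hV' hle' hle rfl rfl rfl
    (isBaseChange_map_of_etale Γ(S, V) Γ(S', V') Γ(X, U) Γ(X', U'))

end Groth.Agent.Omega12
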