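import Groth.Agent.Lib.Omega12.Universal

/-!
# The canonical maps between modules of differentials

`existsUnique_diffCompat`.
-/

set_option autoImplicit false
set_option backward.isDefEq.respectTransparency false
set_option backward.isDefEq.respectTransparency.types false
set_option linter.style.haveILetI false

universe u

open CategoryTheory CategoryTheory.Limits AlgebraicGeometry TopologicalSpace Opposite

namespace Groth.Agent.Omega12

variable {X S X' S' : Scheme.{u}} {f : X ⟶ S} {f' : X' ⟶ S'} {h : X' ⟶ X} {b : S' ⟶ S}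

/-- A derivation of `X'` over `S'`, pushed to `X`. -/
noncomputable def pushDer (hsq : f' ≫ b = h ≫ f) {Ω' : X'.Modules} (d' : OmegaSh.Der f' Ω') :
    OmegaSh.Der f ((Scheme.Modules.pushforward h).obj Ω') where
  d {U} := (d'.app (h ⁻¹ᵁ U.unop)).comp (h.app U.unop).hom.toAddMonoidHom
  d_mul {U} a c := by
    show d'.app _ (h.app U.unop (a * c)) =
      h.app U.unop a • d'.app _ (h.app U.unop c) + h.app U.unop c • d'.app _ (h.app U.unop a)
    rw [map_mul]
    exact d'.d_mul (X := op (h ⁻¹ᵁ U.unop)) _ _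
  d_map {U V} i x := by
    show d'.app _ (h.app V.unop (X.presheaf.map i x)) =
      Ω'.presheaf.map ((Opens.map h.base).map i.unop).op (d'.app _ (h.app U.unop x))
    rw [← CategoryTheory.comp_apply, Scheme.Hom.naturality, CategoryTheory.comp_apply]
    exact d'.d_map ((Opens.map h.base).map i.unop).op (h.app U.unop x)
  d_app {W} c := by
    show d'.app (h ⁻¹ᵁ (f ⁻¹ᵁ W.unop)) (h.app (f ⁻¹ᵁ W.unop) (f.app W.unop c)) = 0
    have hle : h ⁻¹ᵁ (f ⁻¹ᵁ W.unop) ≤ f' ⁻¹ᵁ (b ⁻¹ᵁ W.unop) := by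
      rw [← Scheme.Hom.comp_preimage, ← Scheme.Hom.comp_preimage, hsq]
    have e : h.app (f ⁻¹ᵁ W.unop) (f.app W.unop c) =
        X'.presheaf.map (homOfLE hle).op (f'.app (b ⁻¹ᵁ W.unop) (b.app W.unop c)) := by
      have h1 := Scheme.Hom.congr_app hsq W.unop
      rw [Scheme.Hom.comp_app, Scheme.Hom.comp_app] at h1
      have h2 := congr($h1 c)
      simp only [CategoryTheory.comp_apply] at h2
      rw [h2]
      exact (ConcreteCategory.congr_hom ((X'.presheaf.map_comp _ _).symm.trans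
        ((congrArg X'.presheaf.map (Subsingleton.elim _ (𝟙 _))).trans (X'.presheaf.map_id _))) _).symm
    rw [e]
    refine (d'.d_map (homOfLE hle).op _).trans ?_
    rw [show d'.d (X := op (f' ⁻¹ᵁ (b ⁻¹ᵁ W.unop))) (f'.app (b ⁻¹ᵁ W.unop) (b.app W.unop c)) = 0 from
      d'.d_app (X := op (b ⁻¹ᵁ W.unop)) _]
    exact map_zero _

theorem pushDer_app (hsq : f' ≫ b = h ≫ f) {Ω' : X'.Modules} (d' : OmegaSh.Der f' Ω') (U : X.Opens)
    (s : Γ(X, U)) : (pushDer hsq d').app U s = d'.app (h ⁻¹ᵁ U) (h.app U s) := rfl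

/-- The canonical map `h^*Ω ⟶ Ω'` exists and is unique; no universality of `d'` is needed. -/
theorem existsUnique_diffCompat (hsq : f' ≫ b = h ≫ f) {Ω : X.Modules} {d : OmegaSh.Der f Ω}
    (hd : OmegaSh.IsUniversal d) {Ω' : X'.Modules} (d' : OmegaSh.Der f' Ω') :
    ∃! c : (Scheme.Modules.pullback h).obj Ω ⟶ Ω', OmegaSh.IsDiffCompat h d d' c := by
  let adj := Scheme.Modules.pullbackPushforwardAdjunction h
  obtain ⟨α, hα, huniq⟩ := hd _ (pushDer hsq d')
  have e : ∀ (c : (Scheme.Modules.pullback h).obj Ω ⟶ Ω') (U : X.Opens) (s : Γ(X, U)),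
      (adj.homEquiv _ _ c).app U (d.app U s) = c.app (h ⁻¹ᵁ U) (OmegaSh.pullSect h Ω U (d.app U s)) :=
    fun c U s => by rw [Adjunction.homEquiv_unit]; rfl
  refine ⟨(adj.homEquiv _ _).symm α, fun U s => ?_, fun c hc => ?_⟩
  · rw [← e, Equiv.apply_symm_apply, ← pushDer_app hsq d', ← hα]
    rfl
  · rw [Equiv.eq_symm_apply]
    refine huniq _ (der_ext f fun U s => ?_)
    show (adj.homEquiv _ _ c).app U (d.app U s) = _
    rw [e]
    exact hc U s

end Groth.Agent.Omega12
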