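import Groth.Agent.Lib.PP12.OneParts
import Groth.Agent.Lib.Omega12.Universal

/-!
# A universal derivation exists for every morphism

`exists_isUniversal f`: the kernel of the augmentation `P¹ ⟶ O` receives a universal derivation.
-/

set_option autoImplicit false
set_option backward.isDefEq.respectTransparency false
set_option backward.isDefEq.respectTransparency.types false
set_option linter.style.haveILetI false

universe u

open CategoryTheory CategoryTheory.Limits AlgebraicGeometry TopologicalSpace Opposite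

namespace Groth.Agent.Omega12

variable {X S : Scheme.{u}} (f : X ⟶ S)

theorem exists_isUniversal :
    ∃ (Ω : X.Modules) (d : OmegaSh.Der f Ω), OmegaSh.IsUniversal d := by
  obtain ⟨π₀, h₀⟩ := PP12.exists_fun_part f
  obtain ⟨⟨e, d⟩, hp, -⟩ := PP12.existsUnique_hom_add_der f (PrinPart.P f 1)
    (PrinPart.dPHom f 1 (Coh.structureModule X)) (PP12.isDiffOpLE_dPHom f 1 _)
  have hp' : ∀ (U : X.Opens) (a : Γ(X, U)),
      PrinPart.dn f 1 U a = e.app U (OmegaSh.strSect X U a) + d.app U a := hp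
  have hd1 : ∀ U, d.app U (1 : Γ(X, U)) = 0 := fun U => by
    have h := d.d_mul (X := op U) 1 1
    simp only [mul_one, one_smul] at h
    exact (left_eq_add.1 h : _)
  have he₀ : e ≫ π₀ = 𝟙 _ := PP12.hom_ext_structure fun U => by
    show π₀.app U (e.app U _) = OmegaSh.strSect X U 1
    have h := hp' U 1
    rw [hd1, add_zero] at h
    rw [← h, h₀]
  let q : PrinPart.P f 1 ⟶ PrinPart.P f 1 := 𝟙 _ - π₀ ≫ e
  have hq : q ≫ π₀ = 0 := by
    simp [q, he₀]
  let r : PrinPart.P f 1 ⟶ kernel π₀ := kernel.lift π₀ q hq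
  have hrι : r ≫ kernel.ι π₀ = q := kernel.lift_ι _ _ _
  have her : e ≫ r = 0 := (cancel_mono (kernel.ι π₀)).1 (by
    rw [Category.assoc, hrι, zero_comp]
    simp [q, ← Category.assoc, he₀])
  have hιr : kernel.ι π₀ ≫ r = 𝟙 _ := (cancel_mono (kernel.ι π₀)).1 (by
    rw [Category.assoc, hrι, Category.id_comp]
    simp [q])
  haveI : Epi r := epi_of_epi_fac hιr
  refine ⟨kernel π₀, d.postcomp r.val, fun F D => ?_⟩
  obtain ⟨π₁, h₁⟩ := PP12.isDiffOpLE_derHom f D
  have h₁' : ∀ (U : X.Opens) (s : Γ(X, U)), π₁.app U (PrinPart.dn f 1 U s) = D.app U s :=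
    fun U s => (h₁ U (OmegaSh.strSect X U s)).symm
  have hD1 : ∀ U, D.app U (1 : Γ(X, U)) = 0 := fun U => by
    have h := D.d_mul (X := op U) 1 1
    simp only [mul_one, one_smul] at h
    exact (left_eq_add.1 h : _)
  have hec : e ≫ π₁ = 0 := PP12.hom_ext_structure fun U => by
    show π₁.app U (e.app U _) = Scheme.Modules.Hom.app (0 : Coh.structureModule X ⟶ F) U _
    have h := hp' U 1
    rw [hd1, add_zero] at h
    rw [← h, h₁', hD1]
    simp
  have hqc : q ≫ π₁ = π₁ := by simp [q, hec]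
  refine ⟨kernel.ι π₀ ≫ π₁, der_ext f fun U s => ?_, fun β hβ => ?_⟩
  · show (r ≫ kernel.ι π₀ ≫ π₁).app U (d.app U s) = D.app U s
    rw [← Category.assoc, hrι, hqc]
    have h := congrArg (π₁.app U) (hp' U s)
    have hz : π₁.app U (e.app U (OmegaSh.strSect X U s)) = 0 := by
      show (e ≫ π₁).app U (OmegaSh.strSect X U s) = 0
      rw [hec]
      simp
    rw [h₁', map_add, hz, zero_add] at h
    exact h.symm
  · refine (cancel_epi r).1 (PP12.hom_ext_dP f 1 _ fun U t => ?_)
    show (r ≫ β).app U (PrinPart.dn f 1 U (show Γ(X, U) from t)) =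
      (r ≫ kernel.ι π₀ ≫ π₁).app U (PrinPart.dn f 1 U (show Γ(X, U) from t))
    rw [← Category.assoc r, hrι, hqc, h₁', ← hβ, hp', map_add]
    show (e ≫ r ≫ β).app U _ + (r ≫ β).app U _ = β.app U (r.app U _)
    rw [← Category.assoc, her, zero_comp]
    exact zero_add _

end Groth.Agent.Omega12
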