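import Groth.Agent.Lib.Omega12.Finite
import Groth.Agent.Lib.ModLimH13.Glue
import Groth.Agent.Lib.ModM1.Stalk

/-!
# Homs out of quasi-coherent modules on affine schemes; derivations on affine schemes
-/

set_option autoImplicit false
set_option backward.isDefEq.respectTransparency false
set_option backward.isDefEq.respectTransparency.types false
set_option linter.style.haveILetI false

universe u

open CategoryTheory CategoryTheory.Limits AlgebraicGeometry TopologicalSpace Opposite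

namespace Groth.Agent.Omega12

theorem exists_hom_of_top {X : Scheme.{u}} [IsAffine X] {M G : X.Modules} (hM : Coh.IsQCoh M)
    (l : Γ(M, ⊤) →+ Γ(G, ⊤)) (hl : ∀ (r : Γ(X, ⊤)) (s : Γ(M, ⊤)), l (r • s) = r • l s) :
    ∃! φ : M ⟶ G, ∀ s, φ.app ⊤ s = l s := by
  haveI := hM
  obtain ⟨ψ, hψ⟩ := ModLimH13.exists_localHom (isAffineOpen_top X) (N := G) l hl
  obtain ⟨φ, hφ⟩ := ModLimH13.exists_hom_of_localHom (ι := PUnit.{u + 1}) (V := fun _ => (⊤ : X.Opens))
    (by simp) (fun _ => ψ) (fun _ _ _ _ _ _ => rfl)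
  refine ⟨φ, fun s => (hφ PUnit.unit ⊤ le_rfl s).trans (hψ s), fun φ' hφ' => ?_⟩
  refine Scheme.Modules.hom_ext _ _ fun U => ?_
  ext m
  refine M1.section_ext _ _ fun x hx => ?_
  obtain ⟨r, t, hr, e⟩ := M1.exists_germ_smul_eq M (isAffineOpen_top X) (Set.mem_univ x)
    (M.presheaf.germ U x hx m)
  have key : ∀ χ : M ⟶ G, X.presheaf.germ ⊤ x trivial r • G.presheaf.germ U x hx (χ.app U m) =
      G.presheaf.germ ⊤ x trivial (χ.app ⊤ t) := fun χ => by
    let st : (M.presheaf.stalk x : Type u) →+ (G.presheaf.stalk x : Type u) :=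
      ((TopCat.Presheaf.stalkFunctor AddCommGrpCat.{u} x).map χ.mapPresheaf).hom
    have hst : ∀ (O : X.Opens) (h : x ∈ O) (s : Γ(M, O)),
        st (M.presheaf.germ O x h s) = G.presheaf.germ O x h (χ.app O s) := fun O h s =>
      TopCat.Presheaf.stalkFunctor_map_germ_apply O x h χ.mapPresheaf s
    have e' := congrArg st e
    rw [← TopCat.Presheaf.germ_res_apply X.presheaf (homOfLE (le_top : U ≤ ⊤)) x hx r, ← M1.germ_smul,
      hst, hst, Scheme.Modules.Hom.app_smul, M1.germ_smul, TopCat.Presheaf.germ_res_apply] at e'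
    exact e'
  refine hr.smul_left_cancel.1 ((key φ').trans (Eq.trans ?_ (key φ).symm))
  rw [hφ', hφ PUnit.unit ⊤ le_rfl, hψ]

variable {X S : Scheme.{u}} (f : X ⟶ S)

theorem exists_der [IsAffine X] [IsAffine S] {F : X.Modules} (δ : Γ(X, ⊤) →+ Γ(F, ⊤))
    (hδ : ∀ a b : Γ(X, ⊤), δ (a * b) = a • δ b + b • δ a) (hδ' : ∀ c : Γ(S, ⊤), δ (f.appTop c) = 0) :
    ∃ D : OmegaSh.Der f F, ∀ s, D.app ⊤ s = δ s := by
  have h : (⊤ : X.Opens) ≤ f ⁻¹ᵁ ⊤ := fun _ _ => trivial
  haveI : QuasiSeparated f := inferInstance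
  let T := OmAff.toSect f ⊤ ⊤ h
  haveI : IsIso T := (ConcreteCategory.isIso_iff_bijective T).2
    (bijective_toSect f (isAffineOpen_top X) (isAffineOpen_top S) h)
  let E : (OmAff.sectMod F ⊤).Derivation (f.appLE ⊤ ⊤ h) :=
    ModuleCat.Derivation.mk (fun b => δ b) (fun a b => map_add δ a b) hδ (fun c => by
      rw [show f.appLE ⊤ ⊤ h = f.appTop from (Scheme.Hom.app_eq_appLE f).symm]
      exact hδ' c)
  let L := inv T ≫ E.desc
  obtain ⟨φ, hφ, -⟩ := exists_hom_of_top (Omega26.isQCoh f) L.hom.toAddMonoidHom (fun r s => L.hom.map_smul r s)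
  refine ⟨(OmegaSh.dOmega f).postcomp φ.val, fun s => ?_⟩
  show φ.app ⊤ (OmegaSh.dSect f ⊤ s) = δ s
  rw [hφ, ← OmAff.toSect_d f ⊤ ⊤ h s]
  show (T ≫ inv T ≫ E.desc) _ = _
  rw [IsIso.hom_inv_id_assoc]
  exact E.desc_d s

theorem der_ext_top [IsAffine X] [IsAffine S] {F : X.Modules} {D D' : OmegaSh.Der f F}
    (h : ∀ s, D.app ⊤ s = D'.app ⊤ s) : D = D' := by
  haveI : QuasiSeparated f := inferInstance
  obtain ⟨α, hα, -⟩ := isUniversal_dOmega f F D
  obtain ⟨β, hβ, -⟩ := isUniversal_dOmega f F D'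
  have hle : (⊤ : X.Opens) ≤ f ⁻¹ᵁ ⊤ := fun _ _ => trivial
  have htop : (α.app ⊤).hom = (β.app ⊤).hom := by
    refine sect_ext f (isAffineOpen_top X) (isAffineOpen_top S) hle (RingHom.id _) _ _
      (fun r x => Scheme.Modules.Hom.app_smul α r x) (fun r x => Scheme.Modules.Hom.app_smul β r x) fun b => ?_
    show α.app ⊤ ((OmegaSh.dOmega f).app ⊤ b) = β.app ⊤ ((OmegaSh.dOmega f).app ⊤ b)
    rw [← postcomp_app, ← postcomp_app, hα, hβ]
    exact h b
  have : α = β := (exists_hom_of_top (Omega26.isQCoh f) (β.app ⊤).hom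
    (fun r x => Scheme.Modules.Hom.app_smul β r x)).unique (fun s => DFunLike.congr_fun htop s) (fun _ => rfl)
  rw [← hα, ← hβ, this]

theorem der_top_rules {F : X.Modules} (D : OmegaSh.Der f F) :
    (∀ a b : Γ(X, ⊤), D.app ⊤ (a * b) = a • D.app ⊤ b + b • D.app ⊤ a) ∧
      ∀ c : Γ(S, ⊤), D.app ⊤ (f.appTop c) = 0 :=
  ⟨fun a b => D.d_mul (X := op ⊤) a b, fun c => D.d_app (X := op ⊤) c⟩

/-- Derivations into a module on an affine scheme over an affine scheme, on global sections. -/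
theorem der_affine [IsAffine X] [IsAffine S] (F : X.Modules) :
    Function.Injective (fun D : OmegaSh.Der f F => D.app ⊤) ∧
      ∀ δ : Γ(X, ⊤) →+ Γ(F, ⊤),
        ((∀ a b : Γ(X, ⊤), δ (a * b) = a • δ b + b • δ a) ∧ ∀ c : Γ(S, ⊤), δ (f.appTop c) = 0) ↔
          ∃ D : OmegaSh.Der f F, D.app ⊤ = δ := by
  refine ⟨fun D D' h => der_ext_top f fun s => DFunLike.congr_fun h s, fun δ => ⟨fun hδ => ?_, ?_⟩⟩
  · obtain ⟨D, hD⟩ := exists_der f δ hδ.1 hδ.2
    exact ⟨D, AddMonoidHom.ext hD⟩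
  · rintro ⟨D, rfl⟩
    exact der_top_rules f D

theorem der_tilde (A B : Type u) [CommRing A] [CommRing B] [Algebra A B]
    (L : Type u) [AddCommGroup L] [Module B L] [Module A L] [IsScalarTower A B L] :
    (∀ D : OmegaSh.Der (Spec.map (CommRingCat.ofHom (algebraMap A B))) (tilde (ModuleCat.of (CommRingCat.of B) L)),
      ∃ δ : Derivation A B L, ∀ t : B, D.app ⊤ ((Scheme.ΓSpecIso (CommRingCat.of B)).inv t) =
        (tilde.isoTop (ModuleCat.of (CommRingCat.of B) L)).hom (δ t)) ∧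
    ∀ δ : Derivation A B L,
      ∃! D : OmegaSh.Der (Spec.map (CommRingCat.ofHom (algebraMap A B))) (tilde (ModuleCat.of (CommRingCat.of B) L)),
        ∀ t : B, D.app ⊤ ((Scheme.ΓSpecIso (CommRingCat.of B)).inv t) =
          (tilde.isoTop (ModuleCat.of (CommRingCat.of B) L)).hom (δ t) := by
  let M := ModuleCat.of (CommRingCat.of B) L
  let e : L ≃+ Γ(tilde M, ⊤) :=
    ((tilde.isoTop M).toLinearEquiv.toAddEquiv : L ≃+ Γ(tilde M, ⊤))
  let g : B →+* Γ(Spec (CommRingCat.of B), ⊤) := (Scheme.ΓSpecIso (CommRingCat.of B)).inv.hom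
  let g' : Γ(Spec (CommRingCat.of B), ⊤) →+* B := (Scheme.ΓSpecIso (CommRingCat.of B)).hom.hom
  have hg : ∀ r, g (g' r) = r := fun r => by simp [g, g']
  have hg' : ∀ b, g' (g b) = b := fun b => by simp [g, g']
  have hes : ∀ (b : B) (v : L), g b • e v = e (b • v) := fun b v => by
    refine Eq.trans ?_ ((tilde.isoTop M).hom.hom.map_smul (b : CommRingCat.of B) v).symm
    refine Eq.trans ?_ (Scheme.Modules.smul_Spec_def (b : CommRingCat.of B) (e v)).symm
    refine congrArg (fun r => r • e v) ?_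
    simp [g]
    exact (ConcreteCategory.congr_hom ((Spec (CommRingCat.of B)).presheaf.map_id (op ⊤)) _).symm
  have hsm : ∀ (b : B) (m : Γ(tilde M, ⊤)), e.symm (g b • m) = b • e.symm m := fun b m => by
    apply e.injective
    rw [← hes, e.apply_symm_apply, e.apply_symm_apply]
  have hbase : ∀ a, (Spec.map (CommRingCat.ofHom (algebraMap A B))).appTop
      ((Scheme.ΓSpecIso (CommRingCat.of A)).inv a) = g (algebraMap A B a) := fun a =>
    (congr($(Scheme.ΓSpecIso_inv_naturality (CommRingCat.ofHom (algebraMap A B))) a)).symm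
  constructor
  · intro D
    obtain ⟨h1, h2⟩ := der_top_rules _ D
    let ll : B →ₗ[A] L :=
      { toFun := fun t => e.symm (D.app ⊤ (g t))
        map_add' := fun s t => by rw [map_add, map_add, map_add]
        map_smul' := fun a t => by
          dsimp only
          rw [Algebra.smul_def, map_mul, h1, ← hbase, h2, smul_zero, add_zero, hbase, hsm, algebraMap_smul,
            RingHom.id_apply] }
    refine ⟨Derivation.mk' ll fun s t => ?_, fun t => ?_⟩
    · show e.symm (D.app ⊤ (g (s * t))) = s • e.symm (D.app ⊤ (g t)) + t • e.symm (D.app ⊤ (g s))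
      rw [map_mul, h1, map_add, hsm, hsm]
    · exact (e.apply_symm_apply _).symm
  · intro δ
    obtain ⟨D, hD⟩ := exists_der (Spec.map (CommRingCat.ofHom (algebraMap A B))) (F := tilde M)
      (AddMonoidHom.mk' (fun r => e (δ (g' r))) fun r s => by rw [map_add, map_add, map_add])
      (fun a b => by
        show e (δ (g' (a * b))) = a • e (δ (g' b)) + b • e (δ (g' a))
        rw [map_mul, δ.leibniz, map_add, ← hes, ← hes, hg, hg])
      (fun c => by
        obtain ⟨a, rfl⟩ : ∃ a, (Scheme.ΓSpecIso (CommRingCat.of A)).inv a = c :=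
          ⟨(Scheme.ΓSpecIso (CommRingCat.of A)).hom c, Iso.hom_inv_id_apply _ c⟩
        show e (δ (g' ((Spec.map (CommRingCat.ofHom (algebraMap A B))).appTop _))) = 0
        rw [hbase, hg', δ.map_algebraMap, map_zero])
    refine ⟨D, fun t => ?_, fun D' hD' => der_ext_top _ fun s => ?_⟩
    · refine (hD _).trans ?_
      show e (δ (g' (g t))) = _
      rw [hg']
      rfl
    · obtain ⟨t, rfl⟩ : ∃ t, g t = s := ⟨g' s, hg s⟩
      refine (hD' t).trans (Eq.trans ?_ (hD _).symm)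
      show _ = e (δ (g' (g t)))
      rw [hg']
      rfl

end Groth.Agent.Omega12
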