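import Groth.Agent.Lib.Omega12.Compat
import Mathlib.CategoryTheory.Abelian.Exact

/-!
# The exact sequence of differentials of a composition
-/

set_option autoImplicit false
set_option backward.isDefEq.respectTransparency false
set_option backward.isDefEq.respectTransparency.types false
set_option linter.style.haveILetI false

universe u

open CategoryTheory CategoryTheory.Limits AlgebraicGeometry TopologicalSpace Opposite

namespace Groth.Agent.Omega12

theorem pullbackId_inv_app {X : Scheme.{u}} (M : X.Modules) (U : X.Opens) (s : Γ(M, U)) :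
    ((Scheme.Modules.pullbackId X).inv.app M).app U s = OmegaSh.pullSect (𝟙 X) M U s := by
  have h := unit_conjugateEquiv Adjunction.id (Scheme.Modules.pullbackPushforwardAdjunction (𝟙 X))
    (Scheme.Modules.pullbackId X).hom M
  rw [Scheme.Modules.conjugateEquiv_pullbackId_hom] at h
  have h2 : ((Scheme.Modules.pullbackId X).hom.app M).app U (OmegaSh.pullSect (𝟙 X) M U s) = s :=
    (congrArg (fun φ => Scheme.Modules.Hom.app φ U s) h).symm.trans (by simp; rfl)
  have h3 := congrArg (((Scheme.Modules.pullbackId X).inv.app M).app U) h2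
  refine h3.symm.trans ?_
  exact congrArg (fun φ => Scheme.Modules.Hom.app φ U (OmegaSh.pullSect (𝟙 X) M U s))
    ((Scheme.Modules.pullbackId X).hom_inv_id_app M)

theorem exact_comp {X Y Z : Scheme.{u}} (f : X ⟶ Y) (g : Y ⟶ Z)
    (ΩY : Y.Modules) (dY : OmegaSh.Der g ΩY) (hY : OmegaSh.IsUniversal dY)
    (ΩX : X.Modules) (dX : OmegaSh.Der (f ≫ g) ΩX) (hX : OmegaSh.IsUniversal dX)
    (ΩXY : X.Modules) (dXY : OmegaSh.Der f ΩXY) (hXY : OmegaSh.IsUniversal dXY)
    (c₁ : (Scheme.Modules.pullback f).obj ΩY ⟶ ΩX) (hc₁ : OmegaSh.IsDiffCompat f dY dX c₁)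
    (c₂ : (Scheme.Modules.pullback (𝟙 X)).obj ΩX ⟶ ΩXY) (hc₂ : OmegaSh.IsDiffCompat (𝟙 X) dX dXY c₂) :
    Epi c₂ ∧
      imageSubobject c₁ = kernelSubobject ((Scheme.Modules.pullbackId X).inv.app ΩX ≫ c₂) := by
  let γ := (Scheme.Modules.pullbackId X).inv.app ΩX ≫ c₂
  have hγ : ∀ U s, γ.app U (dX.app U s) = dXY.app U s := fun U s => by
    show c₂.app U (((Scheme.Modules.pullbackId X).inv.app ΩX).app U (dX.app U s)) = _
    rw [pullbackId_inv_app]
    exact hc₂ U s
  have h0 : c₁ ≫ γ = 0 := by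
    apply ((Scheme.Modules.pullbackPushforwardAdjunction f).homEquiv _ _).injective
    refine hom_ext_der _ hY fun U s => ?_
    rw [Adjunction.homEquiv_unit, Adjunction.homEquiv_unit]
    show γ.app (f ⁻¹ᵁ U) (c₁.app (f ⁻¹ᵁ U) (OmegaSh.pullSect f ΩY U (dY.app U s))) = _
    rw [hc₁ U s, hγ]
    exact (dXY.d_app (X := op U) s).trans (by simp)
  have hfac : ∀ (F : X.Modules) (φ : ΩX ⟶ F), c₁ ≫ φ = 0 → ∃ ψ : ΩXY ⟶ F, γ ≫ ψ = φ := fun F φ hφ => by
    let D : OmegaSh.Der f F :=
      { d := fun {U} => (φ.app U.unop).hom.comp (dX.app U.unop)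
        d_mul := fun {U} a b => by
          exact (dX.postcomp φ.val).d_mul (X := U) a b
        d_map := fun {U V} i x => by
          exact (dX.postcomp φ.val).d_map i x
        d_app := fun {W} s => by
          show φ.app (f ⁻¹ᵁ W.unop) (dX.app _ (f.app W.unop s)) = 0
          rw [← hc₁ W.unop s]
          exact congrArg (fun ψ => ψ.app (f ⁻¹ᵁ W.unop) (OmegaSh.pullSect f ΩY W.unop (dY.app W.unop s))) hφ }
    obtain ⟨ψ, hψ, -⟩ := hXY F D
    refine ⟨ψ, hom_ext_der _ hX fun U s => ?_⟩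
    show ψ.app U (γ.app U (dX.app U s)) = φ.app U (dX.app U s)
    rw [hγ]
    exact congrArg (fun E => OmegaSh.Der.app E U s) hψ
  haveI hepi : Epi γ := ⟨fun {F} a b hab => hom_ext_der _ hXY fun U s => by
    rw [← hγ]
    exact congrArg (fun φ => Scheme.Modules.Hom.app φ U (dX.app U s)) hab⟩
  refine ⟨epi_of_epi ((Scheme.Modules.pullbackId X).inv.app ΩX) c₂, ?_⟩
  refine ((ShortComplex.mk c₁ γ h0).exact_iff_image_eq_kernel).1 ?_
  exact ShortComplex.exact_of_g_is_cokernel _ (CokernelCofork.IsColimit.ofπ _ _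
    (fun φ hφ => (hfac _ φ hφ).choose) (fun φ hφ => (hfac _ φ hφ).choose_spec)
    (fun φ hφ m hm => (cancel_epi γ).1 (hm.trans (hfac _ φ hφ).choose_spec.symm)))

end Groth.Agent.Omega12
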