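import Groth.Agent.Lib.Omega12.Finite
import Groth.Agent.Lib.Omega12.Compat
import Groth.Agent.Lib.PinchH7.Mod
import Mathlib.AlgebraicGeometry.Morphisms.FormallyUnramified

/-! # Formally unramified iff the module of differentials vanishes -/

set_option autoImplicit false
set_option backward.isDefEq.respectTransparency false
set_option backward.isDefEq.respectTransparency.types false
set_option linter.style.haveILetI false

universe u

open CategoryTheory CategoryTheory.Limits AlgebraicGeometry TopologicalSpace Opposite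

namespace Groth.Agent.Omega12

theorem subsingleton_sections_of_isZero {X : Scheme.{u}} {M : X.Modules} (h : IsZero M) (U : X.Opens) :
    Subsingleton Γ(M, U) := by
  refine ⟨fun a b => ?_⟩
  have h1 : ∀ c : Γ(M, U), c = 0 := fun c => by
    have := congrArg (fun φ : M ⟶ M => φ.app U c) (h.eq_of_src (𝟙 M) 0)
    simpa using this
  rw [h1 a, h1 b]

variable {X Y : Scheme.{u}} (f : X ⟶ Y) {Ω : X.Modules} {d : OmegaSh.Der f Ω} (hd : OmegaSh.IsUniversal d)

include hd in
theorem formallyUnramified_iff_isZero : FormallyUnramified f ↔ IsZero Ω := by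
  choose V U hV hU hxU _ hle using fun x => Omega26.exists_chart f x ⊤ trivial
  refine ⟨fun h => ?_, fun h => ⟨fun {V₀} hV₀ {U₀} hU₀ e => ?_⟩⟩
  · have h0 : ∀ (x : X) (a : Ω.presheaf.stalk x), a = 0 := by
      intro x a
      obtain ⟨W, hxW, s, rfl⟩ := Ω.presheaf.exists_germ_eq a
      obtain ⟨T, hT, hxT, hTle⟩ := exists_isAffineOpen_mem_and_subset (x := x) (U := W ⊓ U x) ⟨hxW, hxU x⟩
      have hTV : T ≤ f ⁻¹ᵁ V x := fun z hz => hle x (hTle hz).2
      letI := (f.appLE (V x) T hTV).hom.toAlgebra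
      haveI : Algebra.FormallyUnramified Γ(Y, V x) Γ(X, T) := f.formallyUnramified_appLE (hV x) hT hTV
      haveI : Subsingleton Γ(Ω, T) :=
        (sectLinEquiv f hd hT (hV x) hTV).symm.injective.subsingleton
      have hTW : T ≤ W := fun z hz => (hTle hz).1
      rw [← M1.germ_mres Ω hTW hxT s, Subsingleton.elim (M1.mres Ω hTW s) 0]
      exact map_zero _
    rw [IsZero.iff_id_eq_zero]
    haveI : Mono (0 : Ω ⟶ Ω) := (M1.mono_iff_stalk _).mpr fun x a b _ => (h0 x a).trans (h0 x b).symm
    exact (cancel_mono (0 : Ω ⟶ Ω)).mp (by simp)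
  · letI := (f.appLE V₀ U₀ e).hom.toAlgebra
    haveI := subsingleton_sections_of_isZero h U₀
    exact ⟨(sectLinEquiv f hd hU₀ hV₀ e).injective.subsingleton⟩

/-- Formally unramified iff all derivations over the base vanish. -/
theorem formallyUnramified_iff_der_eq_zero :
    FormallyUnramified f ↔ ∀ (F : X.Modules) (D : OmegaSh.Der f F) (U : X.Opens) (s : Γ(X, U)), D.app U s = 0 := by
  constructor
  · intro hfu F D U s
    refine M1.section_ext _ _ fun x hx => ?_
    obtain ⟨T, ⟨V, hV, hTV⟩, hxT, hTU⟩ := isAffBasis_chart f U x hx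
    rw [← M1.germ_mres F hTU hxT, ← M1.germ_mres F hTU hxT]
    refine congrArg _ ?_
    rw [map_zero]
    refine (D.d_map (homOfLE hTU).op s).symm.trans ?_
    letI := (f.appLE V T.1 hTV).hom.toAlgebra
    haveI : Algebra.FormallyUnramified Γ(Y, V) Γ(X, T.1) := f.formallyUnramified_appLE hV T.2 hTV
    refine ((derChart f D V T.1 hTV).desc_d _).symm.trans ?_
    rw [show CommRingCat.KaehlerDifferential.d (X.presheaf.map (homOfLE hTU).op s) =
      (0 : CommRingCat.KaehlerDifferential (f.appLE V T.1 hTV)) from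
      (Subsingleton.elim (α := KaehlerDifferential Γ(Y, V) Γ(X, T.1)) _ 0)]
    exact map_zero _
  · intro h
    choose V U hV hU hxU _ hle using fun x => Omega26.exists_chart f x ⊤ trivial
    rw [IsZariskiLocalAtSource.iff_of_iSup_eq_top (P := @FormallyUnramified) U
      (Opens.coe_eq_univ.mp (Set.eq_univ_of_forall fun x => by simpa using ⟨x, hxU x⟩))]
    intro x
    haveI := quasiSeparated_ι_comp f (hU x)
    rw [formallyUnramified_iff_isZero _ (isUniversal_dOmega ((U x).ι ≫ f)), IsZero.iff_id_eq_zero]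
    refine hom_ext_der _ (isUniversal_dOmega ((U x).ι ≫ f)) fun W t => ?_
    have key : ∀ (O : X.Opens) (W : (U x : Scheme.{u}).Opens), O ≤ U x → (U x).ι ⁻¹ᵁ O = W →
        ∀ t : Γ((U x : Scheme.{u}), W), (OmegaSh.dOmega ((U x).ι ≫ f)).app W t = 0 := by
      intro O W hO e t
      subst e
      obtain ⟨s, rfl⟩ := (bijective_ι_app hO).2 t
      have hsq : ((U x).ι ≫ f) ≫ 𝟙 Y = (U x).ι ≫ f := Category.comp_id _
      exact h _ (pushDer hsq (OmegaSh.dOmega ((U x).ι ≫ f))) O s
    show (OmegaSh.dOmega ((U x).ι ≫ f)).app W t =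
      Scheme.Modules.Hom.app (0 : Omega.sheaf ((U x).ι ≫ f) ⟶ Omega.sheaf ((U x).ι ≫ f)) W _
    rw [key ((U x).ι ''ᵁ W) W ((U x).ι_image_le W) ((U x).ι.preimage_image_eq W) t]
    simp

end Groth.Agent.Omega12
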