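import Groth.Agent.Lib.TensorMod.IdealMod
import Groth.Agent.Lib.ModM1.PullSpec
import Groth.Agent.Lib.ModM1.Coh
import Groth.Prelude.Def_Omega2
import Mathlib.RingTheory.Kaehler.Basic
import Mathlib.AlgebraicGeometry.Pullbacks

/-!
The conormal module of a closed immersion of affine schemes, and the sheaf of differentials of a
morphism of affine schemes.
-/

universe u

open CategoryTheory Limits AlgebraicGeometry Opposite TopologicalSpace
open scoped TensorProduct

set_option backward.isDefEq.respectTransparency false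

namespace Groth.Agent.Omega12

variable {T B : CommRingCat.{u}} {X : Scheme.{u}}

/-- The ideal module of the kernel of `Spec B ⟶ Spec T ≅ X` is, on `Spec T`, the `tilde` of the
kernel. -/
theorem nonempty_idealMod_iso (φ : T ⟶ B) (e : Spec T ⟶ X) [IsIso e] :
    Nonempty ((Scheme.Modules.pullback e).obj (ClSub.idealMod (Spec.map φ ≫ e).ker) ≅
      tilde (ModuleCat.of T (RingHom.ker φ.hom))) := by
  haveI : IsAffine X := IsAffine.of_isIso (inv e)
  let J := (Spec.map φ ≫ e).ker
  let F := ClSub.idealMod J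
  let U : X.Opens := e ''ᵁ ⊤
  have hU : IsAffineOpen U := (isAffineOpen_top (Spec T)).image_of_isOpenImmersion e
  let G := F.restrict e
  have hG : Coh.IsQCoh G := M1.isQCoh_restrict (M2.isQCoh_idealMod J) e
  haveI : G.IsQuasicoherent := hG
  let χ : T ≅ Γ(X, U) := (Scheme.ΓSpecIso T).symm ≪≫ (e.appIso ⊤).symm
  have hmem : ∀ t : T, χ.hom t ∈ J.ideal ⟨U, hU⟩ ↔ φ t = 0 := by
    intro t
    rw [show J.ideal ⟨U, hU⟩ = RingHom.ker ((Spec.map φ ≫ e).app U).hom from
      Scheme.Hom.ker_apply _ _, RingHom.mem_ker]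
    have hpre : (Spec.map φ ≫ e) ⁻¹ᵁ U = ⊤ := by
      rw [Scheme.Hom.comp_preimage, Scheme.Hom.preimage_image_eq]; rfl
    have key : χ.hom ≫ (Spec.map φ ≫ e).app U =
        φ ≫ (Scheme.ΓSpecIso B).inv ≫ (Spec B).presheaf.map (eqToHom hpre).op := by
      rw [Scheme.ΓSpecIso_inv_naturality_assoc]
      simp only [χ, Iso.trans_hom, Iso.symm_hom, Scheme.Hom.comp_app, Category.assoc]
      erw [Scheme.Hom.appIso_inv_app_assoc, Scheme.Hom.naturality]
    have h2 : ((Spec.map φ ≫ e).app U) (χ.hom t) =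
        (Spec B).presheaf.map (eqToHom hpre).op ((Scheme.ΓSpecIso B).inv (φ t)) :=
      congr($key t)
    rw [h2]
    exact ⟨fun h => ((Scheme.ΓSpecIso B).symm ≪≫ (Spec B).presheaf.mapIso
      (eqToIso hpre).op).commRingCatIsoToRingEquiv.injective (h.trans (map_zero _).symm),
      fun h => by rw [h, map_zero, map_zero]⟩
  let σ : Γ(G, ⊤) → Γ(F, U) := fun a => (F.restrictAppIso e ⊤).hom a
  have σ_smul : ∀ (t : T) (a : Γ(G, ⊤)), σ (t • a) = χ.hom t • σ a := fun t a => by
    simp only [σ, Scheme.Modules.smul_Spec_def, G, Scheme.Modules.smul_restrictAppIso_hom_apply]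
    rfl
  have χinv : ∀ z, χ.hom (χ.inv z) = z := fun z => χ.inv_hom_id_apply z
  have hrange := M2.range_idealIncl J ⟨U, hU⟩
  let g : Γ(G, ⊤) →ₗ[T] RingHom.ker φ.hom :=
    { toFun := fun a => ⟨χ.inv (M2.idealIncl J (σ a)), by
        refine (RingHom.mem_ker).mpr ((hmem _).mp ?_)
        rw [χinv]; exact hrange.le ⟨σ a, rfl⟩⟩
      map_add' := fun a b => Subtype.ext (by
        show χ.inv (M2.idealIncl J (σ (a + b))) =
          χ.inv (M2.idealIncl J (σ a)) + χ.inv (M2.idealIncl J (σ b))
        rw [← map_add, ← M2.idealIncl_add]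
        exact congrArg (fun z => χ.inv (M2.idealIncl J z))
          (map_add (F.restrictAppIso e ⊤).hom.hom a b))
      map_smul' := fun t a => Subtype.ext (by
        dsimp only
        rw [σ_smul, M2.idealIncl_smul, map_mul, χ.hom_inv_id_apply]
        rfl) }
  have hbij : Function.Bijective g := by
    refine ⟨fun a b hab => ?_, fun t => ?_⟩
    · have h1 : χ.inv (M2.idealIncl J (σ a)) = χ.inv (M2.idealIncl J (σ b)) :=
        congrArg Subtype.val hab
      have h2 := congrArg χ.hom h1
      rw [χinv, χinv] at h2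
      exact (F.restrictAppIso e ⊤).addCommGroupIsoToAddEquiv.injective
        (M2.idealIncl_injective J U h2)
    · obtain ⟨s, hs⟩ := hrange.ge ((hmem t.1).mpr t.2)
      refine ⟨(F.restrictAppIso e ⊤).inv s, Subtype.ext ?_⟩
      show χ.inv (M2.idealIncl J (σ _)) = t.1
      rw [show σ ((F.restrictAppIso e ⊤).inv s) = s from Iso.inv_hom_id_apply _ s, hs,
        χ.hom_inv_id_apply]
  exact ⟨((Scheme.Modules.restrictFunctorIsoPullback e).app F).symm ≪≫
    (@asIso _ _ _ _ G.fromTildeΓ
      (Scheme.Modules.isIso_fromTildeΓ_of_isQuasicoherent (R := T) G)).symm ≪≫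
    (tilde.functor T).mapIso (LinearEquiv.toModuleIso (LinearEquiv.ofBijective g hbij))⟩

/-- The conormal module of a closed immersion of affine schemes. -/
theorem nonempty_conormal_iso (φ : T ⟶ B) (e : Spec T ⟶ X) [IsIso e] :
    Nonempty (Omega.conormal (Spec.map φ ≫ e) ≅
      tilde ((ModuleCat.extendScalars φ.hom).obj (ModuleCat.of T (RingHom.ker φ.hom)))) := by
  obtain ⟨i⟩ := nonempty_idealMod_iso φ e
  exact ⟨((Scheme.Modules.pullbackComp (Spec.map φ) e).app _).symm ≪≫
    (Scheme.Modules.pullback (Spec.map φ)).mapIso i ≪≫ M1.tildePullbackObjIso φ _⟩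

section Kaehler

variable (R A : Type u) [CommRing R] [CommRing A] [Algebra R A]

theorem lmul_smul_kaehler (t : A ⊗[R] A) (w : Ω[A⁄R]) :
    Algebra.TensorProduct.lmul' R (S := A) t • w = t • w := by
  rw [← algebraMap_smul (A ⊗[R] A) (Algebra.TensorProduct.lmul' R (S := A) t) w, eq_comm,
    ← sub_eq_zero, ← sub_smul]
  refine Ideal.Cotangent.smul_eq_zero_of_mem (I := KaehlerDifferential.ideal R A) ?_ w
  simp [RingHom.mem_ker, Algebra.TensorProduct.algebraMap_apply]

/-- The conormal module of the diagonal is the module of differentials. -/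
theorem nonempty_extend_iso :
    Nonempty ((ModuleCat.extendScalars (Algebra.TensorProduct.lmul' R (S := A)).toRingHom).obj
        (ModuleCat.of (A ⊗[R] A) (KaehlerDifferential.ideal R A)) ≅
      ModuleCat.of A (Ω[A⁄R])) := by
  letI mΩ : Module (A ⊗[R] A) Ω[A⁄R] := inferInstance
  letI sΩ : SMul (A ⊗[R] A) Ω[A⁄R] := mΩ.toDistribMulAction.toDistribSMul.toSMul
  letI : Algebra (A ⊗[R] A) A := (Algebra.TensorProduct.lmul' R (S := A)).toRingHom.toAlgebra
  haveI : IsScalarTower (A ⊗[R] A) A Ω[A⁄R] := IsScalarTower.of_algebraMap_smul fun t w =>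
    lmul_smul_kaehler R A t w
  let I := KaehlerDifferential.ideal R A
  let fwd : A ⊗[A ⊗[R] A] I →ₗ[A] Ω[A⁄R] :=
    LinearMap.liftBaseChange A (KaehlerDifferential.fromIdeal R A)
  let one : I →ₗ[A ⊗[R] A] A ⊗[A ⊗[R] A] I := TensorProduct.mk (A ⊗[R] A) A I 1
  have hone : ∀ x y : I, one (x * y) = 0 := by
    intro x y
    have h : x * y = x.1 • y := rfl
    rw [h, map_smul, TensorProduct.mk_apply, TensorProduct.smul_tmul', Algebra.smul_def,
      mul_one, RingHom.algebraMap_toAlgebra]
    rw [show (Algebra.TensorProduct.lmul' R (S := A)).toRingHom x.1 = 0 from x.2,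
      TensorProduct.zero_tmul]
  let bwd := Ideal.Cotangent.lift one hone
  have hl : ∀ z, bwd (fwd z) = z := by
    intro z
    induction z using TensorProduct.induction_on with
    | zero => rw [map_zero, map_zero]
    | add x y hx hy => rw [map_add, map_add, hx, hy]
    | tmul a x =>
      have ha : algebraMap (A ⊗[R] A) A (a ⊗ₜ 1) = a := by
        simp [RingHom.algebraMap_toAlgebra]
      rw [show fwd (a ⊗ₜ x) = a • KaehlerDifferential.fromIdeal R A x from
        LinearMap.liftBaseChange_tmul _ _ a x, ← ha, algebraMap_smul]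
      refine (map_smul bwd _ _).trans ?_
      show (a ⊗ₜ 1 : A ⊗[R] A) • (1 : A) ⊗ₜ[A ⊗[R] A] x = _
      rw [TensorProduct.smul_tmul', Algebra.smul_def, mul_one]
  have hs : Function.Surjective fwd := fun w => by
    obtain ⟨x, rfl⟩ := KaehlerDifferential.fromIdeal_surjective R A w
    exact ⟨1 ⊗ₜ x, (LinearMap.liftBaseChange_tmul _ _ _ _).trans (one_smul _ _)⟩
  exact ⟨LinearEquiv.toModuleIso
    (LinearEquiv.ofBijective fwd ⟨Function.LeftInverse.injective hl, hs⟩)⟩

end Kaehler

end Groth.Agent.Omega12
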