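import Groth.Agent.Lib.Omega12.LocFree
import Groth.Agent.Lib.FibGenSch4
import Mathlib.RingTheory.Smooth.StandardSmooth

/-!
# The rank of the differentials of a smooth morphism is the local fibre dimension

`exists_free_nbhd_smooth`, `exists_free_nbhd_smoothAt`.
-/

set_option autoImplicit false
set_option backward.isDefEq.respectTransparency false
set_option backward.isDefEq.respectTransparency.types false
set_option linter.style.haveILetI false

universe u

open CategoryTheory CategoryTheory.Limits AlgebraicGeometry TopologicalSpace Opposite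

namespace Groth.Agent.Omega12

theorem fibreDimAt_of_chart (n : ℕ) {X Y : Scheme.{u}} (f : X ⟶ Y) (x : X) [LocallyOfFiniteType f]
    {U : Y.Opens} (hU : IsAffineOpen U) {V : X.Opens} (hV : IsAffineOpen V) (hxV : x ∈ V) (e : V ≤ f ⁻¹ᵁ U)
    (hf : (f.appLE U V e).hom.IsStandardSmoothOfRelativeDimension n) :
    FlatMor.fibreDimAt f x = (n : WithBot ℕ∞) := by
  obtain ⟨g, hg, hget⟩ := hf.exists_etale_mvPolynomial
  let a : Spec Γ(X, V) ⟶ Spec (CommRingCat.of (MvPolynomial (Fin n) Γ(Y, U))) := Spec.map (CommRingCat.ofHom g)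
  let π : Spec (CommRingCat.of (MvPolynomial (Fin n) Γ(Y, U))) ⟶ Spec Γ(Y, U) :=
    Spec.map (CommRingCat.ofHom (algebraMap Γ(Y, U) (MvPolynomial (Fin n) Γ(Y, U))))
  have haπ : a ≫ π = Spec.map (f.appLE U V e) := by
    rw [← Spec.map_comp]
    exact congrArg Spec.map (CommRingCat.hom_ext hg)
  haveI : Etale a := (HasRingHomProperty.Spec_iff (P := @Etale)).2 hget
  haveI : LocallyOfFiniteType π := (HasRingHomProperty.Spec_iff (P := @LocallyOfFiniteType)).2
    (RingHom.finiteType_algebraMap.2 inferInstance)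
  have hcomp : hV.fromSpec ≫ f = (a ≫ π) ≫ hU.fromSpec := by
    rw [haπ]; exact (IsAffineOpen.SpecMap_appLE_fromSpec f hU hV e).symm
  obtain ⟨t, rfl⟩ : ∃ t, hV.fromSpec t = x := ⟨_, hV.fromSpec_primeIdealOf ⟨x, hxV⟩⟩
  refine (FibDim14.fibreDimAt_etale_comp hV.fromSpec f _).symm.trans ?_
  simp only [hcomp]
  rw [FibDim14.fibreDimAt_comp_lqf, FibDim14.fibreDimAt_etale_comp, FibGen4.fibreDimAt_affineSpace]

variable {X Y : Scheme.{u}} (f : X ⟶ Y) {Ω : X.Modules} {d : OmegaSh.Der f Ω} (hd : OmegaSh.IsUniversal d)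

include hd in
theorem free_nbhd_of_chart (n : ℕ) (x : X) {V : Y.Opens} (hV : IsAffineOpen V) {U : X.Opens} (hU : IsAffineOpen U)
    (hxU : x ∈ U) (hle : U ≤ f ⁻¹ᵁ V) (hs : (f.appLE V U hle).hom.IsStandardSmoothOfRelativeDimension n) :
    ∃ W : X.Opens, x ∈ W ∧ Nonempty (Ω.restrict W.ι ≅ FlatMod.freeMod (↑W) n) := by
  letI := (f.appLE V U hle).hom.toAlgebra
  haveI : Algebra.IsStandardSmoothOfRelativeDimension n Γ(Y, V) Γ(X, U) := hs
  haveI : Algebra.IsStandardSmooth Γ(Y, V) Γ(X, U) :=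
    Algebra.IsStandardSmoothOfRelativeDimension.isStandardSmooth n
  haveI : Nonempty (U.toScheme) := ⟨⟨x, hxU⟩⟩
  haveI : Nontrivial Γ(X, U) := Scheme.component_nontrivial X U
  have hr : Module.rank Γ(X, U) (KaehlerDifferential Γ(Y, V) Γ(X, U)) = n :=
    Algebra.IsStandardSmoothOfRelativeDimension.rank_kaehlerDifferential n
  let b := (Module.finBasisOfFinrankEq Γ(X, U) (KaehlerDifferential Γ(Y, V) Γ(X, U))
    (Module.finrank_eq_of_rank_eq hr)).reindex Equiv.ulift.{u}.symm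
  obtain ⟨e⟩ := nonempty_restrict_fromSpec_iso (isQCoh_receptacle f hd) hU
    (ModuleCat.of Γ(X, U) (ULift.{u} (Fin n) →₀ Γ(X, U))) ((sectLinEquiv f hd hU hV hle).symm.trans b.repr)
  obtain ⟨z, hz⟩ := hU.range_fromSpec.ge hxU
  obtain ⟨W, m, hW, hiso⟩ := M1.exists_freeMod_of_openImmersion hU.fromSpec (e ≪≫ M1.frTildeIso _) z
  obtain ⟨e'⟩ := M1.nonempty_fr_freeMod (hU.fromSpec.opensRange : Scheme.{u}) (ULift.{u} (Fin n))
  refine ⟨hU.fromSpec.opensRange, ⟨z, hz⟩, ?_⟩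
  have h : Set.range hU.fromSpec.opensRange.ι ⊆ Set.range hU.fromSpec := by rw [Scheme.Opens.range_ι]; rfl
  rw [Nat.card_ulift, Nat.card_fin] at e'
  exact ⟨(M1.restrictLiftIso _ hU.fromSpec hU.fromSpec.opensRange.ι h).symm ≪≫
    (Scheme.Modules.restrictFunctor (IsOpenImmersion.lift hU.fromSpec hU.fromSpec.opensRange.ι h)).mapIso
      (e ≪≫ M1.frTildeIso _) ≪≫ (M1.frRestrictIso _ _).symm ≪≫ e'⟩

include hd in
/-- Near a point of a smooth morphism the differentials are free of rank the fibre dimension. -/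
theorem exists_free_nbhd_smooth [Smooth f] (x : X) :
    ∃ (U : X.Opens) (n : ℕ), x ∈ U ∧ Nonempty (Ω.restrict U.ι ≅ FlatMod.freeMod (↑U) n) ∧
      FlatMor.fibreDimAt f x = (n : WithBot ℕ∞) := by
  obtain ⟨V, hV, U, hU, hxU, hle, hs⟩ := Smooth.exists_isStandardSmooth f x
  letI := (f.appLE V U hle).hom.toAlgebra
  haveI : Algebra.IsStandardSmooth Γ(Y, V) Γ(X, U) := hs
  obtain ⟨ι, σ, _, _, ⟨P⟩⟩ := Algebra.IsStandardSmooth.out (R := Γ(Y, V)) (S := Γ(X, U))
  haveI hn : Algebra.IsStandardSmoothOfRelativeDimension P.dimension Γ(Y, V) Γ(X, U) :=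
    ⟨ι, σ, inferInstance, inferInstance, P, rfl⟩
  obtain ⟨W, hxW, e⟩ := free_nbhd_of_chart f hd P.dimension x hV hU hxU hle hn
  exact ⟨W, P.dimension, hxW, e, fibreDimAt_of_chart P.dimension f x hV hU hxU hle hn⟩

end Groth.Agent.Omega12
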