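import Groth.Agent.Lib.Omega12.Restrict

/-!
# Quasi-coherence, finite type and finite presentation of modules of differentials

For a receptacle `(Ω, d)` of a universal derivation of an arbitrary morphism.
-/

set_option autoImplicit false
set_option backward.isDefEq.respectTransparency false
set_option backward.isDefEq.respectTransparency.types false
set_option linter.style.haveILetI false

universe u

open CategoryTheory CategoryTheory.Limits AlgebraicGeometry TopologicalSpace Opposite

namespace Groth.Agent.Omega12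

variable {X Y : Scheme.{u}} (f : X ⟶ Y) {Ω : X.Modules} {d : OmegaSh.Der f Ω} (hd : OmegaSh.IsUniversal d)

include hd in
theorem isQCoh_receptacle : Coh.IsQCoh Ω := by
  choose V U hV hU hxU _ hle using fun x => Omega26.exists_chart f x ⊤ trivial
  refine M1.isQCoh_of_openImmersion_cover (fun x => (U x).ι) (fun x => ⟨x, ⟨x, hxU x⟩, rfl⟩) fun x => ?_
  haveI := quasiSeparated_ι_comp f (hU x)
  obtain ⟨e, -⟩ := exists_iso_sheaf ((U x).ι ≫ f) (isUniversal_resDer f hd (U x))
  exact M1.isQCoh_of_isIso e (Omega26.isQCoh _)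

/-- Sections of a receptacle over a chart are the Kähler differentials. -/
noncomputable def sectLinEquiv {U : X.Opens} (hU : IsAffineOpen U) {V : Y.Opens} (hV : IsAffineOpen V)
    (h : U ≤ f ⁻¹ᵁ V) :
    letI := (f.appLE V U h).hom.toAlgebra
    KaehlerDifferential Γ(Y, V) Γ(X, U) ≃ₗ[Γ(X, U)] Γ(Ω, U) :=
  letI := (f.appLE V U h).hom.toAlgebra
  LinearEquiv.ofBijective (sectMap f d V U h).hom (bijective_sectMap f hd hU hV h)

theorem sectLinEquiv_D {U : X.Opens} (hU : IsAffineOpen U) {V : Y.Opens} (hV : IsAffineOpen V)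
    (h : U ≤ f ⁻¹ᵁ V) (b : Γ(X, U)) :
    letI := (f.appLE V U h).hom.toAlgebra
    sectLinEquiv f hd hU hV h (KaehlerDifferential.D Γ(Y, V) Γ(X, U) b) = d.app U b :=
  sectMap_d f d V U h b

include hd in
theorem isFT_receptacle [LocallyOfFiniteType f] : CohB1.IsFT Ω := by
  choose V U hV hU hxU _ hle using fun x => Omega26.exists_chart f x ⊤ trivial
  refine M1.isFT_of_openImmersion_cover (fun x => (hU x).fromSpec) (fun x => ⟨x, ?_⟩) fun x => ?_
  · exact (hU x).range_fromSpec.ge (hxU x)
  · letI := (f.appLE (V x) (U x) (hle x)).hom.toAlgebra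
    haveI : Algebra.FiniteType Γ(Y, V x) Γ(X, U x) := f.finiteType_appLE (hV x) (hU x) (hle x)
    haveI : Module.Finite Γ(X, U x) Γ(Ω, U x) := Module.Finite.equiv (sectLinEquiv f hd (hU x) (hV x) (hle x))
    exact (M1.isFT_iff_finite_spec _ (M1.isQCoh_fromSpec (isQCoh_receptacle f hd) (hU x))).mpr
      (Module.Finite.equiv (M1.affineSecEquiv Ω (hU x)).symm)

include hd in
theorem isFP_receptacle [LocallyOfFinitePresentation f] : CohB1.IsFP Ω := by
  choose V U hV hU hxU _ hle using fun x => Omega26.exists_chart f x ⊤ trivial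
  refine M1.isFP_of_openImmersion_cover (fun x => (hU x).fromSpec) (fun x => ⟨x, ?_⟩) fun x => ?_
  · exact (hU x).range_fromSpec.ge (hxU x)
  · letI := (f.appLE (V x) (U x) (hle x)).hom.toAlgebra
    haveI : Algebra.FinitePresentation Γ(Y, V x) Γ(X, U x) := f.finitePresentation_appLE (hV x) (hU x) (hle x)
    haveI : Module.FinitePresentation Γ(X, U x) Γ(Ω, U x) :=
      M1.finitePresentation_of_linearEquiv (sectLinEquiv f hd (hU x) (hV x) (hle x))
    exact (M1.isFP_iff_finitePresentation_spec _ (M1.isQCoh_fromSpec (isQCoh_receptacle f hd) (hU x))).mpr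
      (M1.finitePresentation_of_linearEquiv (M1.affineSecEquiv Ω (hU x)).symm)

end Groth.Agent.Omega12
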