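import Groth.Agent.Lib.Omega12.Compat
import Mathlib.AlgebraicGeometry.Morphisms.Separated

/-!
# Receptacles of universal derivations on open subschemes and affine charts (arbitrary morphisms)

`resDer`, `isUniversal_resDer`, `sectMap`, `bijective_sectMap`.
-/

set_option autoImplicit false
set_option backward.isDefEq.respectTransparency false
set_option backward.isDefEq.respectTransparency.types false
set_option linter.style.haveILetI false

universe u

open CategoryTheory CategoryTheory.Limits AlgebraicGeometry TopologicalSpace Opposite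

namespace Groth.Agent.Omega12

variable {X Y : Scheme.{u}} (f : X ⟶ Y)

theorem der_res {Ω : X.Modules} (d : OmegaSh.Der f Ω) {O O' : X.Opens} (h : O' ≤ O) (s : Γ(X, O)) :
    d.app O' (X.presheaf.map (homOfLE h).op s) = Ω.presheaf.map (homOfLE h).op (d.app O s) :=
  d.d_map (homOfLE h).op s

theorem der_base {Ω : X.Modules} (d : OmegaSh.Der f Ω) (V : Y.Opens) (c : Γ(Y, V)) :
    d.app (f ⁻¹ᵁ V) (f.app V c) = 0 := d.d_app (X := op V) c

/-- The restriction of a derivation to an open subscheme. -/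
noncomputable def resDer {Ω : X.Modules} (d : OmegaSh.Der f Ω) (U : X.Opens) :
    OmegaSh.Der (U.ι ≫ f) (Ω.restrict U.ι) where
  d {W} := d.app (U.ι ''ᵁ W.unop)
  d_mul {W} a c := by
    refine (d.d_mul (X := op (U.ι ''ᵁ W.unop)) a c).trans ?_
    exact (congrArg₂ (· + ·) (M1.restrict_ι_smul Ω (U := U) (W := W.unop) a _) (M1.restrict_ι_smul Ω (U := U) (W := W.unop) c _)).symm
  d_map {W W'} i x := d.d_map (U.ι.opensFunctor.map i.unop).op x
  d_app {V} c := by
    show d.app (U.ι ''ᵁ ((U.ι ≫ f) ⁻¹ᵁ V.unop)) ((U.ι ≫ f).app V.unop c) = 0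
    rw [Scheme.Hom.comp_app, CategoryTheory.comp_apply, Scheme.Opens.ι_app]
    refine (der_res f d (O := f ⁻¹ᵁ V.unop) (U.ι.image_preimage_le (f ⁻¹ᵁ V.unop)) (f.app V.unop c)).trans ?_
    exact (congrArg _ (der_base f d V.unop c)).trans (map_zero _)

theorem resDer_app {Ω : X.Modules} (d : OmegaSh.Der f Ω) (U : X.Opens) (W : (U : Scheme.{u}).Opens)
    (s : Γ((U : Scheme.{u}), W)) : (resDer f d U).app W s = d.app (U.ι ''ᵁ W) s := rfl

theorem bijective_ι_app {U O : X.Opens} (hO : O ≤ U) : Function.Bijective (U.ι.app O) := by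
  haveI := U.ι.isIso_app O (by simpa using hO)
  exact ConcreteCategory.bijective_of_isIso (U.ι.app O)

theorem isUniversal_resDer {Ω : X.Modules} {d : OmegaSh.Der f Ω} (hd : OmegaSh.IsUniversal d) (U : X.Opens) :
    OmegaSh.IsUniversal (resDer f d U) := by
  intro G D
  have hsq : (U.ι ≫ f) ≫ 𝟙 Y = U.ι ≫ f := Category.comp_id _
  obtain ⟨α, hα, huniq⟩ := hd _ (pushDer hsq D)
  let adj := Scheme.Modules.restrictAdjunction U.ι
  have hunit : ∀ (β : Ω.restrict U.ι ⟶ G) (O : X.Opens) (s : Γ(X, O)),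
      (adj.homEquiv _ _ β).app O (d.app O s) =
        β.app (U.ι ⁻¹ᵁ O) ((resDer f d U).app (U.ι ⁻¹ᵁ O) (U.ι.app O s)) := fun β O s => by
    rw [Adjunction.homEquiv_unit]
    show β.app (U.ι ⁻¹ᵁ O) ((adj.unit.app Ω).app O (d.app O s)) = _
    refine congrArg _ ?_
    rw [Scheme.Modules.restrictAdjunction_unit_app_app]
    exact (d.d_map (homOfLE (U.ι.image_preimage_le O)).op s).symm
  obtain ⟨β, hβ⟩ : ∃ β, adj.homEquiv _ _ β = α := ⟨_, Equiv.apply_symm_apply _ α⟩
  refine ⟨β, der_ext _ fun W t => ?_, fun β' hβ' => ?_⟩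
  · have key : ∀ (O : X.Opens) (W : (U : Scheme.{u}).Opens), O ≤ U → U.ι ⁻¹ᵁ O = W → ∀ t : Γ((U : Scheme.{u}), W),
        β.app W ((resDer f d U).app W t) = D.app W t := by
      intro O W hO e t
      subst e
      obtain ⟨s, rfl⟩ := (bijective_ι_app hO).2 t
      rw [← hunit, hβ, ← pushDer_app hsq D, ← hα]
      rfl
    exact key (U.ι ''ᵁ W) W (U.ι_image_le W) (U.ι.preimage_image_eq W) t
  · refine (adj.homEquiv _ _).injective (Eq.trans ?_ hβ.symm)
    refine huniq _ (der_ext f fun O s => ?_)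
    show (adj.homEquiv _ _ β').app O (d.app O s) = _
    rw [hunit, pushDer_app hsq D, ← hβ']
    rfl

theorem quasiSeparated_ι_comp {U : X.Opens} (hU : IsAffineOpen U) : QuasiSeparated (U.ι ≫ f) := by
  haveI : IsAffine (U : Scheme.{u}) := hU
  haveI : IsSeparated ((U.ι ≫ f) ≫ terminal.from Y) := by
    rw [terminal.comp_from]; infer_instance
  haveI : IsSeparated (U.ι ≫ f) := IsSeparated.of_comp _ (terminal.from Y)
  infer_instance

/-- The comparison from Kähler differentials to the sections of a receptacle. -/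
noncomputable def sectMap {Ω : X.Modules} (d : OmegaSh.Der f Ω) (V : Y.Opens) (U : X.Opens) (h : U ≤ f ⁻¹ᵁ V) :
    CommRingCat.KaehlerDifferential (f.appLE V U h) ⟶ OmAff.sectMod Ω U :=
  (derChart f d V U h).desc

theorem sectMap_d {Ω : X.Modules} (d : OmegaSh.Der f Ω) (V : Y.Opens) (U : X.Opens) (h : U ≤ f ⁻¹ᵁ V)
    (b : Γ(X, U)) : sectMap f d V U h (CommRingCat.KaehlerDifferential.d b) = d.app U b :=
  (derChart f d V U h).desc_d b

theorem bijective_desc_of_eq {A B : CommRingCat.{u}} {φ φ' : A ⟶ B} (e : φ = φ') {M : ModuleCat.{u} B}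
    (D : M.Derivation φ) (D' : M.Derivation φ') (hD : ∀ b, D.d b = D'.d b) (h : Function.Bijective D'.desc) :
    Function.Bijective D.desc := by
  subst e
  have : D.desc = D'.desc :=
    CommRingCat.KaehlerDifferential.ext fun b => by rw [D.desc_d, D'.desc_d, hD]
  rwa [this]

theorem ι_appLE_comp {U : X.Opens} {V : Y.Opens} (W : (U : Scheme.{u}).Opens) (h : U.ι ''ᵁ W ≤ f ⁻¹ᵁ V)
    (h' : W ≤ (U.ι ≫ f) ⁻¹ᵁ V) :
    f.appLE V (U.ι ''ᵁ W) h = (U.ι ≫ f).appLE V W h' := by
  rw [← Scheme.Hom.appLE_comp_appLE U.ι f V (f ⁻¹ᵁ V) W le_rfl h', Scheme.Opens.ι_appLE]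
  simp only [Scheme.Hom.appLE, homOfLE_refl, op_id, CategoryTheory.Functor.map_id, Category.comp_id]

theorem bijective_sectMap {Ω : X.Modules} {d : OmegaSh.Der f Ω} (hd : OmegaSh.IsUniversal d) {U : X.Opens}
    (hU : IsAffineOpen U) {V : Y.Opens} (hV : IsAffineOpen V) (h : U ≤ f ⁻¹ᵁ V) :
    Function.Bijective (sectMap f d V U h) := by
  have key : ∀ (U' : X.Opens) (h' : U' ≤ f ⁻¹ᵁ V), U.ι ''ᵁ ⊤ = U' → Function.Bijective (sectMap f d V U' h') := by
    rintro _ h' rfl
    haveI := quasiSeparated_ι_comp f hU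
    haveI : IsAffine (U : Scheme.{u}) := hU
    have h'' : (⊤ : (U : Scheme.{u}).Opens) ≤ (U.ι ≫ f) ⁻¹ᵁ V := fun z _ => h z.2
    obtain ⟨e, he⟩ := exists_iso_sheaf (U.ι ≫ f) (isUniversal_resDer f hd U)
    let D' : (OmAff.sectMod Ω (U.ι ''ᵁ ⊤)).Derivation ((U.ι ≫ f).appLE V ⊤ h'') :=
      ModuleCat.Derivation.mk (fun b => d.app (U.ι ''ᵁ ⊤) b) (fun a c => map_add (d.app (U.ι ''ᵁ ⊤)) a c)
        (fun a c => d.d_mul (X := op (U.ι ''ᵁ ⊤)) a c) (fun c => by
          rw [← ι_appLE_comp f ⊤ h' h'']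
          exact (derChart f d V (U.ι ''ᵁ ⊤) h').d_map c)
    refine bijective_desc_of_eq (ι_appLE_comp f ⊤ h' h'') _ D' ?_ ?_
    · intro b; rfl
    · letI := ((U.ι ≫ f).appLE V ⊤ h'').hom.toAlgebra
      have hfac : ∀ z : CommRingCat.KaehlerDifferential ((U.ι ≫ f).appLE V ⊤ h''),
          D'.desc z = e.hom.app ⊤ (OmAff.toSect (U.ι ≫ f) V ⊤ h'' z) := fun z => by
        have hz : z ∈ Submodule.span Γ((U : Scheme.{u}), ⊤)
            (Set.range (KaehlerDifferential.D Γ(Y, V) Γ((U : Scheme.{u}), ⊤))) := by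
          rw [KaehlerDifferential.span_range_derivation]; trivial
        induction hz using Submodule.span_induction with
        | mem y hy =>
          obtain ⟨b, rfl⟩ := hy
          refine (D'.desc_d b).trans ?_
          refine Eq.trans ?_ (congrArg (e.hom.app ⊤) (OmAff.toSect_d (U.ι ≫ f) V ⊤ h'' b)).symm
          exact (he ⊤ b).symm
        | zero =>
          refine (map_zero D'.desc.hom).trans ?_
          refine ((congrArg (e.hom.app ⊤) (map_zero (OmAff.toSect (U.ι ≫ f) V ⊤ h'').hom)).trans ?_).symm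
          exact map_zero _
        | add y z _ _ hy hz =>
          refine (map_add D'.desc.hom y z).trans ?_
          refine Eq.trans ?_ (congrArg (e.hom.app ⊤) (map_add (OmAff.toSect (U.ι ≫ f) V ⊤ h'').hom y z)).symm
          exact (congrArg₂ (· + ·) hy hz).trans (map_add (e.hom.app ⊤).hom _ _).symm
        | smul r y _ hy =>
          refine (D'.desc.hom.map_smul r y).trans ?_
          refine Eq.trans ?_ (congrArg (e.hom.app ⊤) ((OmAff.toSect (U.ι ≫ f) V ⊤ h'').hom.map_smul r y)).symm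
          refine Eq.trans ?_ (Scheme.Modules.Hom.app_smul e.hom (U := ⊤) r _).symm
          refine Eq.trans ?_ (M1.restrict_ι_smul Ω (U := U) (W := ⊤) r _).symm
          exact congrArg _ hy
      rw [show (⇑D'.desc) = ⇑(e.hom.app ⊤) ∘ ⇑(OmAff.toSect (U.ι ≫ f) V ⊤ h'') from funext hfac]
      refine Function.Bijective.comp ?_ (bijective_toSect (U.ι ≫ f) (isAffineOpen_top _) hV h'')
      haveI : IsIso (e.hom.app ⊤) := Scheme.Modules.Hom.isIso_iff_isIso_app.1 inferInstance ⊤
      exact ConcreteCategory.bijective_of_isIso (e.hom.app ⊤)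
  exact key U h U.ι_image_top

end Groth.Agent.Omega12
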