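import Groth.Agent.Lib.Omega12.Compat
import Groth.Agent.Lib.ModLimH13.Hom1
import Groth.Agent.Lib.TensorMod.IdealMod
import Groth.Agent.Lib.ConormalBC19.Basic
import Mathlib.CategoryTheory.Abelian.Exact
import Mathlib.AlgebraicGeometry.Morphisms.Immersion

/-!
# The exact sequence of an immersion: conormal sheaf and differentials
-/

set_option autoImplicit false
set_option backward.isDefEq.respectTransparency false
set_option backward.isDefEq.respectTransparency.types false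
set_option linter.style.haveILetI false

universe u

open CategoryTheory CategoryTheory.Limits AlgebraicGeometry TopologicalSpace Opposite

namespace Groth.Agent.Omega12

variable {X Y : Scheme.{u}} (j : X ⟶ Y)

/-- A function killed at a point of an immersion is locally a section of its ideal. -/
theorem exists_idealSect_of_germ_eq_zero [IsImmersion j] [QuasiCompact j] {V : Y.Opens} {x : X} (hx : j x ∈ V)
    (a : Γ(Y, V)) (h : X.presheaf.germ (j ⁻¹ᵁ V) x hx (j.app V a) = 0) :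
    ∃ (W : Y.Opens) (hW : W ≤ V), j x ∈ W ∧ ∃ s : Γ(ClSub.idealMod j.ker, W),
      M2.idealIncl j.ker s = Y.presheaf.map (homOfLE hW).op a := by
  obtain ⟨O, hxO, i₁, i₂, he⟩ := X.presheaf.germ_eq (U := j ⁻¹ᵁ V) (V := j ⁻¹ᵁ V) x hx hx (j.app V a) 0
    (h.trans (map_zero _).symm)
  obtain ⟨W₀, hW₀, hW₀e⟩ := j.isEmbedding.isInducing.isOpen_iff.1 O.2
  have hxW₀ : j x ∈ W₀ := by
    have : x ∈ j ⁻¹' W₀ := by rw [hW₀e]; exact hxO
    exact this
  obtain ⟨W, hW, hxW, hWle⟩ := exists_isAffineOpen_mem_and_subset (X := Y) (x := j x)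
    (U := V ⊓ ⟨W₀, hW₀⟩) ⟨hx, hxW₀⟩
  have hWV : W ≤ V := fun z hz => (hWle hz).1
  refine ⟨W, hWV, hxW, ?_⟩
  have hpre : j ⁻¹ᵁ W ≤ O := fun z hz => by
    have : z ∈ j ⁻¹' W₀ := (hWle hz).2
    rwa [hW₀e] at this
  have hz : Y.presheaf.map (homOfLE hWV).op a ∈ j.ker.ideal ⟨W, hW⟩ := by
    rw [Scheme.Hom.ker_apply, RingHom.mem_ker]
    show j.app W (Y.presheaf.map (homOfLE hWV).op a) = 0
    have h1 := ConcreteCategory.congr_hom (j.naturality (homOfLE hWV).op) a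
    refine h1.trans ?_
    show (X.presheaf.map ((Opens.map j.base).map (homOfLE hWV)).op) (j.app V a) = 0
    have h2 := congrArg (X.presheaf.map (homOfLE hpre).op) he
    simp only [map_zero] at h2
    rw [← CategoryTheory.comp_apply, ← Functor.map_comp] at h2
    exact h2
  obtain ⟨s, hs⟩ := (M2.range_idealIncl j.ker ⟨W, hW⟩).ge hz
  exact ⟨s, hs⟩

/-- The functions on an immersed scheme come locally from the ambient scheme. -/
theorem exists_app_eq_res [IsImmersion j] {U : X.Opens} {x : X} (hx : x ∈ U) (s : Γ(X, U)) :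
    ∃ (V : Y.Opens) (a : Γ(Y, V)) (hxV : j x ∈ V),
      X.presheaf.germ (j ⁻¹ᵁ V) x hxV (j.app V a) = X.presheaf.germ U x hx s := by
  obtain ⟨t, ht⟩ := j.stalkMap_surjective x (X.presheaf.germ U x hx s)
  obtain ⟨V, hxV, a, rfl⟩ := Y.presheaf.exists_germ_eq t
  exact ⟨V, a, hxV, (Scheme.Hom.germ_stalkMap_apply j V x hxV a).symm.trans ht⟩

variable {Z : Scheme.{u}} {f : Y ⟶ Z}

/-- A derivation killed on the ideal descends to the immersed scheme. -/
theorem exists_descend [IsImmersion j] [QuasiCompact j] {F : X.Modules}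
    (D : OmegaSh.Der f ((Scheme.Modules.pushforward j).obj F))
    (hD : ∀ (W : Y.Opens) (s : Γ(ClSub.idealMod j.ker, W)), D.app W (M2.idealIncl j.ker s) = 0) :
    ∃ E : OmegaSh.Der (j ≫ f) F, ∀ (V : Y.Opens) (a : Γ(Y, V)), E.app (j ⁻¹ᵁ V) (j.app V a) = D.app V a := by
  let dd : ∀ (V : Y.Opens), Γ(Y, V) →+ Γ(F, j ⁻¹ᵁ V) := fun V => D.app V
  have dd_map : ∀ (V W : Y.Opens) (h : W ≤ V) (a : Γ(Y, V)),
      dd W (Y.presheaf.map (homOfLE h).op a) = M1.mres F (j.preimage_mono h) (dd V a) := fun V W h a =>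
    D.d_map (homOfLE h).op a
  have dd_germ : ∀ (V W : Y.Opens) (x : X) (hV : j x ∈ V) (h : W ≤ V) (hW : j x ∈ W) (a : Γ(Y, V)),
      F.presheaf.germ (j ⁻¹ᵁ W) x hW (dd W (Y.presheaf.map (homOfLE h).op a)) =
        F.presheaf.germ (j ⁻¹ᵁ V) x hV (dd V a) := fun V W x hV h hW a => by
    rw [dd_map, M1.germ_mres]
  -- germs determine the value
  have wd : ∀ (x : X) (V₁ V₂ : Y.Opens) (h₁ : j x ∈ V₁) (h₂ : j x ∈ V₂) (a₁ : Γ(Y, V₁)) (a₂ : Γ(Y, V₂)),
      X.presheaf.germ (j ⁻¹ᵁ V₁) x h₁ (j.app V₁ a₁) = X.presheaf.germ (j ⁻¹ᵁ V₂) x h₂ (j.app V₂ a₂) →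
      F.presheaf.germ (j ⁻¹ᵁ V₁) x h₁ (dd V₁ a₁) = F.presheaf.germ (j ⁻¹ᵁ V₂) x h₂ (dd V₂ a₂) := by
    intro x V₁ V₂ h₁ h₂ a₁ a₂ he
    let V := V₁ ⊓ V₂
    have hxV : j x ∈ V := ⟨h₁, h₂⟩
    let b := Y.presheaf.map (homOfLE (inf_le_left : V ≤ V₁)).op a₁ -
      Y.presheaf.map (homOfLE (inf_le_right : V ≤ V₂)).op a₂
    have hb : X.presheaf.germ (j ⁻¹ᵁ V) x hxV (j.app V b) = 0 := by
      have e : ∀ (V' : Y.Opens) (h : V ≤ V') (h' : j x ∈ V') (a : Γ(Y, V')),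
          X.presheaf.germ (j ⁻¹ᵁ V) x hxV (j.app V (Y.presheaf.map (homOfLE h).op a)) =
            X.presheaf.germ (j ⁻¹ᵁ V') x h' (j.app V' a) := fun V' h h' a => by
        rw [← Scheme.Hom.germ_stalkMap_apply, ← Scheme.Hom.germ_stalkMap_apply, TopCat.Presheaf.germ_res_apply]
      show X.presheaf.germ (j ⁻¹ᵁ V) x hxV (j.app V (_ - _)) = 0
      rw [map_sub, map_sub, e V₁ _ h₁, e V₂ _ h₂, he, sub_self]
    obtain ⟨W, hW, hxW, s, hs⟩ := exists_idealSect_of_germ_eq_zero j hxV b hb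
    have h0 : F.presheaf.germ (j ⁻¹ᵁ V) x hxV (dd V b) = 0 := by
      rw [← dd_germ V W x hxV hW hxW b, ← hs]
      exact (congrArg _ (hD W s)).trans (map_zero _)
    have h0' : F.presheaf.germ (j ⁻¹ᵁ V) x hxV (dd V b) =
        F.presheaf.germ (j ⁻¹ᵁ V) x hxV (dd V (Y.presheaf.map (homOfLE (inf_le_left : V ≤ V₁)).op a₁)) -
        F.presheaf.germ (j ⁻¹ᵁ V) x hxV (dd V (Y.presheaf.map (homOfLE (inf_le_right : V ≤ V₂)).op a₂)) := by
      show F.presheaf.germ (j ⁻¹ᵁ V) x hxV (dd V (_ - _)) = _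
      rw [map_sub]
      exact map_sub (F.presheaf.germ (j ⁻¹ᵁ V) x hxV).hom _ _
    rw [h0, dd_germ V₁ V x h₁ _ hxV, dd_germ V₂ V x h₂ _ hxV] at h0'
    exact sub_eq_zero.1 h0'.symm
  -- the prescribed germs
  let Rep : ∀ (U : X.Opens) (_ : Γ(X, U)) (x : X), x ∈ U → ((F.presheaf.stalk x : AddCommGrpCat.{u}) : Type u) → Prop :=
    fun U s x hx c => ∀ (V : Y.Opens) (a : Γ(Y, V)) (hxV : j x ∈ V),
      X.presheaf.germ (j ⁻¹ᵁ V) x hxV (j.app V a) = X.presheaf.germ U x hx s →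
      F.presheaf.germ (j ⁻¹ᵁ V) x hxV (dd V a) = c
  have rep_ex : ∀ (U : X.Opens) (s : Γ(X, U)) (x : X) (hx : x ∈ U), ∃ c, Rep U s x hx c ∧
      ∃ (V : Y.Opens) (a : Γ(Y, V)) (hxV : j x ∈ V),
        X.presheaf.germ (j ⁻¹ᵁ V) x hxV (j.app V a) = X.presheaf.germ U x hx s ∧
        F.presheaf.germ (j ⁻¹ᵁ V) x hxV (dd V a) = c := fun U s x hx => by
    obtain ⟨V, a, hxV, he⟩ := exists_app_eq_res j hx s
    exact ⟨_, fun V' a' hxV' he' => wd x V' V hxV' hxV a' a (he'.trans he.symm), V, a, hxV, he, rfl⟩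
  have glue : ∀ (U : X.Opens) (s : Γ(X, U)), ∃ σ : Γ(F, U),
      ∀ x (hx : x ∈ U), Rep U s x hx (F.presheaf.germ U x hx σ) := fun U s => by
    have loc : ∀ x : U, ∃ (O : X.Opens) (hO : O ≤ U) (σ : Γ(F, O)), x.1 ∈ O ∧
        ∀ y (hy : y ∈ O), Rep U s y (hO hy) (F.presheaf.germ O y hy σ) := fun ⟨x, hx⟩ => by
      obtain ⟨V, a, hxV, he⟩ := exists_app_eq_res j hx s
      obtain ⟨O, hxO, i₁, i₂, he'⟩ := X.presheaf.germ_eq x hxV hx _ _ he
      refine ⟨O, i₂.le, M1.mres F i₁.le (dd V a), hxO, fun y hy V' a' hy' e' => ?_⟩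
      rw [M1.germ_mres F i₁.le hy]
      refine wd y V' V hy' (i₁.le hy) a' a (e'.trans ?_)
      have := congrArg (X.presheaf.germ O y hy) he'
      rw [TopCat.Presheaf.germ_res_apply, TopCat.Presheaf.germ_res_apply] at this
      exact this.symm
    choose O hO σ hxO hσ using loc
    obtain ⟨τ, hτ, -⟩ := TopCat.Sheaf.existsUnique_gluing' ⟨_, F.isSheaf⟩ O U
      (fun x => homOfLE (hO x)) (fun x hx => Opens.mem_iSup.2 ⟨⟨x, hx⟩, hxO _⟩) σ (fun a b => by
        refine M1.section_ext _ _ fun y hy => ?_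
        obtain ⟨c, -, V, t, hyV, he, -⟩ := rep_ex U s y (hO a hy.1)
        refine (TopCat.Presheaf.germ_res_apply F.presheaf (homOfLE inf_le_left) y hy (σ a)).trans ?_
        refine Eq.trans ?_ (TopCat.Presheaf.germ_res_apply F.presheaf (homOfLE inf_le_right) y hy (σ b)).symm
        exact (hσ a y hy.1 V t hyV he).symm.trans (hσ b y hy.2 V t hyV he))
    refine ⟨τ, fun x hx V t hxV he => ?_⟩
    rw [hσ ⟨x, hx⟩ x (hxO _) V t hxV he, ← hτ ⟨x, hx⟩]
    exact TopCat.Presheaf.germ_res_apply F.presheaf (homOfLE (hO ⟨x, hx⟩)) x (hxO _) τ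
  choose e he using glue
  have e_eq : ∀ (U : X.Opens) (s : Γ(X, U)) (σ : Γ(F, U)),
      (∀ x (hx : x ∈ U), ∃ (V : Y.Opens) (a : Γ(Y, V)) (hxV : j x ∈ V),
        X.presheaf.germ (j ⁻¹ᵁ V) x hxV (j.app V a) = X.presheaf.germ U x hx s ∧
        F.presheaf.germ (j ⁻¹ᵁ V) x hxV (dd V a) = F.presheaf.germ U x hx σ) → e U s = σ := fun U s σ h =>
    M1.section_ext _ _ fun x hx => by
      obtain ⟨V, a, hxV, h1, h2⟩ := h x hx
      exact (he U s x hx V a hxV h1).symm.trans h2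
  have e_germ : ∀ (U : X.Opens) (s : Γ(X, U)) x (hx : x ∈ U) (V : Y.Opens) (a : Γ(Y, V)) (hxV : j x ∈ V),
      X.presheaf.germ (j ⁻¹ᵁ V) x hxV (j.app V a) = X.presheaf.germ U x hx s →
      F.presheaf.germ (j ⁻¹ᵁ V) x hxV (dd V a) = F.presheaf.germ U x hx (e U s) := fun U s x hx => he U s x hx
  have pair : ∀ (U : X.Opens) (s t : Γ(X, U)) (x : X) (hx : x ∈ U), ∃ (V : Y.Opens) (a b : Γ(Y, V)) (hxV : j x ∈ V),
      X.presheaf.germ (j ⁻¹ᵁ V) x hxV (j.app V a) = X.presheaf.germ U x hx s ∧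
      X.presheaf.germ (j ⁻¹ᵁ V) x hxV (j.app V b) = X.presheaf.germ U x hx t := fun U s t x hx => by
    obtain ⟨V₁, a, h₁, ea⟩ := exists_app_eq_res j hx s
    obtain ⟨V₂, b, h₂, eb⟩ := exists_app_eq_res j hx t
    refine ⟨V₁ ⊓ V₂, Y.presheaf.map (homOfLE inf_le_left).op a, Y.presheaf.map (homOfLE inf_le_right).op b,
      ⟨h₁, h₂⟩, ?_, ?_⟩
    · rw [← Scheme.Hom.germ_stalkMap_apply, TopCat.Presheaf.germ_res_apply, Scheme.Hom.germ_stalkMap_apply, ea]
    · rw [← Scheme.Hom.germ_stalkMap_apply, TopCat.Presheaf.germ_res_apply, Scheme.Hom.germ_stalkMap_apply, eb]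
  have e_add : ∀ (U : X.Opens) (s t : Γ(X, U)), e U (s + t) = e U s + e U t := fun U s t =>
    e_eq U _ _ fun x hx => by
      obtain ⟨V, a, b, hxV, ea, eb⟩ := pair U s t x hx
      refine ⟨V, a + b, hxV, by rw [map_add, map_add, map_add, ea, eb], ?_⟩
      rw [map_add (dd V)]
      refine (map_add (F.presheaf.germ (j ⁻¹ᵁ V) x hxV).hom _ _).trans ?_
      rw [map_add (F.presheaf.germ U x hx).hom]
      exact congrArg₂ (· + ·) (e_germ U s x hx V a hxV ea) (e_germ U t x hx V b hxV eb)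
  let E : OmegaSh.Der (j ≫ f) F :=
    { d := fun {U} => AddMonoidHom.mk' (e U.unop) (e_add U.unop)
      d_mul := fun {U} s t => by
        show e U.unop (s * t) = (show Γ(X, U.unop) from s) • e U.unop t + (show Γ(X, U.unop) from t) • e U.unop s
        refine e_eq _ _ _ fun x hx => ?_
        obtain ⟨V, a, b, hxV, ea, eb⟩ := pair U.unop s t x hx
        refine ⟨V, a * b, hxV, (by rw [map_mul, map_mul, ea, eb]; exact (map_mul _ _ _).symm), ?_⟩
        have hm : dd V (a * b) = j.app V a • dd V b + j.app V b • dd V a := D.d_mul (X := op V) a b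
        rw [hm]
        refine (map_add (F.presheaf.germ (j ⁻¹ᵁ V) x hxV).hom _ _).trans ?_
        refine Eq.trans ?_ (map_add (F.presheaf.germ U.unop x hx).hom _ _).symm
        refine congrArg₂ (· + ·) ?_ ?_
        · refine (M1.germ_smul F hxV _ _).trans ?_
          refine Eq.trans ?_ (M1.germ_smul F hx _ _).symm
          rw [ea, e_germ U.unop t x hx V b hxV eb]
        · refine (M1.germ_smul F hxV _ _).trans ?_
          refine Eq.trans ?_ (M1.germ_smul F hx _ _).symm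
          rw [eb, e_germ U.unop s x hx V a hxV ea]
      d_map := fun {U W} i s => by
        show e W.unop (X.presheaf.map i s) = M1.mres F i.unop.le (e U.unop s)
        refine e_eq _ _ _ fun x hx => ?_
        obtain ⟨V, a, hxV, ea⟩ := exists_app_eq_res j (i.unop.le hx) s
        refine ⟨V, a, hxV, ea.trans (TopCat.Presheaf.germ_res_apply X.presheaf i.unop x hx s).symm, ?_⟩
        rw [M1.germ_mres]
        exact e_germ U.unop s x _ V a hxV ea
      d_app := fun {W} c => by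
        show e ((j ≫ f) ⁻¹ᵁ W.unop) ((j ≫ f).app W.unop c) = 0
        refine e_eq _ _ _ fun x hx => ⟨f ⁻¹ᵁ W.unop, f.app W.unop c, hx, ?_, ?_⟩
        · rfl
        · rw [show dd (f ⁻¹ᵁ W.unop) (f.app W.unop c) = 0 from D.d_app (X := W) c]
          exact (map_zero (F.presheaf.germ _ x hx).hom).trans (map_zero _).symm }
  refine ⟨E, fun V a => e_eq _ _ _ fun x hx => ⟨V, a, hx, rfl, rfl⟩⟩

/-- The sequence `N ⟶ j^*Ω ⟶ Ω ⟶ 0` of an immersion. -/
theorem exact_immersion [IsImmersion j] [QuasiCompact j]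
    (ΩY : Y.Modules) (dY : OmegaSh.Der f ΩY) (hY : OmegaSh.IsUniversal dY)
    (ΩX : X.Modules) (dX : OmegaSh.Der (j ≫ f) ΩX) (hX : OmegaSh.IsUniversal dX)
    (φ : Omega.conormal j ⟶ (Scheme.Modules.pullback j).obj ΩY) (hφ : OmegaSh.IsConormalDiff j dY φ)
    (c : (Scheme.Modules.pullback j).obj ΩY ⟶ ΩX) (hc : OmegaSh.IsDiffCompat j dY dX c) :
    ∃ h0 : φ ≫ c = 0, (ShortComplex.mk φ c h0).Exact ∧ Epi c := by
  let adj := Scheme.Modules.pullbackPushforwardAdjunction j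
  have hzero : ∀ (W : Y.Opens) (s : Γ(ClSub.idealMod j.ker, W)), j.app W (M2.idealIncl j.ker s) = 0 := by
    intro W s
    have h1 := M2.subschemeι_app_idealIncl j.ker s
    have h2 : j = j.toImage ≫ j.ker.subschemeι := (Scheme.Hom.toImage_imageι j).symm
    refine ConormalBC19.app_eq_zero_of_eq h2.symm ?_
    rw [Scheme.Hom.comp_app, CommRingCat.comp_apply, h1, map_zero]
  have h0 : φ ≫ c = 0 := by
    haveI : Coh.IsQCoh (ClSub.idealMod j.ker) := M2.isQCoh_idealMod j.ker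
    refine ModLimH13.pullback_hom_ext j _ _ _ fun y => ?_
    obtain ⟨V, hV, hyV, -⟩ := exists_isAffineOpen_mem_and_subset (X := Y) (x := y) (U := ⊤) trivial
    refine ⟨V, Set.univ, hyV, hV, Submodule.span_univ, fun s _ => ?_⟩
    rw [show ModLimH13.res' j (ClSub.idealMod j.ker) (le_rfl : j ⁻¹ᵁ V ≤ _) s = OmegaSh.conormalSect j V s from
      ConcreteCategory.congr_hom ((Omega.conormal j).presheaf.map_id _) _]
    show c.app (j ⁻¹ᵁ V) (φ.app (j ⁻¹ᵁ V) (OmegaSh.conormalSect j V s)) = 0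
    rw [hφ V s, hc V, show j.app V (OmegaSh.idealSect j.ker V s) = 0 from hzero V s, map_zero]
  haveI hepi : Epi c := ⟨fun {F} a b hab => hom_ext_der _ hX fun U s => M1.section_ext _ _ fun x hx => by
    obtain ⟨V, t, hxV, he⟩ := exists_app_eq_res j hx s
    obtain ⟨O, hxO, i₁, i₂, he'⟩ := X.presheaf.germ_eq x hxV hx _ _ he
    have key : ∀ ψ : ΩX ⟶ F, F.presheaf.germ U x hx (ψ.app U (dX.app U s)) =
        F.presheaf.germ (j ⁻¹ᵁ V) x hxV (ψ.app (j ⁻¹ᵁ V) (dX.app (j ⁻¹ᵁ V) (j.app V t))) := fun ψ => by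
      rw [← M1.germ_mres F i₂.le hxO, ← M1.germ_mres F i₁.le hxO, ← M1.app_mres, ← M1.app_mres,
        show M1.mres ΩX i₂.le (dX.app U s) = dX.app O (X.presheaf.map i₂.op s) from (dX.d_map i₂.op s).symm,
        show M1.mres ΩX i₁.le (dX.app (j ⁻¹ᵁ V) (j.app V t)) = dX.app O (X.presheaf.map i₁.op (j.app V t)) from
          (dX.d_map i₁.op (j.app V t)).symm, he']
    rw [key a, key b, ← hc V t]
    exact congrArg (fun ψ => F.presheaf.germ (j ⁻¹ᵁ V) x hxV
      (Scheme.Modules.Hom.app ψ (j ⁻¹ᵁ V) (OmegaSh.pullSect j ΩY V (dY.app V t)))) hab⟩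
  have hfac : ∀ (F : X.Modules) (α : (Scheme.Modules.pullback j).obj ΩY ⟶ F), φ ≫ α = 0 →
      ∃ ψ : ΩX ⟶ F, c ≫ ψ = α := fun F α hα => by
    let α' := adj.homEquiv _ _ α
    have hα' : ∀ (V : Y.Opens) (m : Γ(ΩY, V)), α'.app V m = α.app (j ⁻¹ᵁ V) (OmegaSh.pullSect j ΩY V m) :=
      fun V m => by
      show (adj.homEquiv _ _ α).app V m = _
      rw [Adjunction.homEquiv_unit]; rfl
    obtain ⟨E, hE⟩ := exists_descend j (dY.postcomp α'.val) (fun W s => by
      show α'.app W (dY.app W (M2.idealIncl j.ker s)) = 0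
      refine (hα' _ _).trans ?_
      show α.app (j ⁻¹ᵁ W) (OmegaSh.pullSect j ΩY W (dY.app W (OmegaSh.idealSect j.ker W s))) = 0
      rw [← hφ W s]
      exact congrArg (fun ψ => Scheme.Modules.Hom.app ψ (j ⁻¹ᵁ W) (OmegaSh.conormalSect j W s)) hα)
    obtain ⟨ψ, hψ, -⟩ := hX F E
    refine ⟨ψ, (adj.homEquiv _ _).injective (hom_ext_der _ hY fun V s => ?_)⟩
    rw [Adjunction.homEquiv_unit, Adjunction.homEquiv_unit]
    show ψ.app (j ⁻¹ᵁ V) (c.app (j ⁻¹ᵁ V) (OmegaSh.pullSect j ΩY V (dY.app V s))) =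
      α.app (j ⁻¹ᵁ V) (OmegaSh.pullSect j ΩY V (dY.app V s))
    rw [hc V s, ← hα']
    exact (congrArg (fun G => OmegaSh.Der.app G (j ⁻¹ᵁ V) (j.app V s)) hψ).trans (hE V s)
  exact ⟨h0, ShortComplex.exact_of_g_is_cokernel _ (CokernelCofork.IsColimit.ofπ _ _
    (fun α hα => (hfac _ α hα).choose) (fun α hα => (hfac _ α hα).choose_spec)
    (fun α hα m hm => (cancel_epi c).1 (hm.trans (hfac _ α hα).choose_spec.symm))), hepi⟩

end Groth.Agent.Omega12
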