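import Groth.Agent.Lib.Omega12.SmoothCrit
import Groth.Agent.Lib.Omega12.ImmersionSeq
import Groth.Agent.Lib.Omega12.Exists
import Groth.Agent.Lib.GrMap12.MonoFS
import Groth.Agent.Lib.GrMap12.ConormalDiff
import Groth.Agent.Lib.TensorMod.Invertible
import Groth.Agent.Lib.PP12.AffineOps
import Groth.Agent.Lib.DPerf.Top
import Mathlib.Algebra.Category.ModuleCat.Sheaf
import Mathlib.LinearAlgebra.Dimension.Constructions

/-!
# The rank of the conormal sheaf of a smooth subscheme

`exists_conormal_rank`.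
-/

set_option autoImplicit false
set_option backward.isDefEq.respectTransparency false
set_option backward.isDefEq.respectTransparency.types false
set_option linter.style.haveILetI false

universe u

open CategoryTheory CategoryTheory.Limits AlgebraicGeometry TopologicalSpace Opposite TensorProduct

namespace Groth.Agent.Omega12

/-- Sections on an open of a short exact sequence of modules are left exact. -/
theorem exists_app_eq_of_shortExact {X : Scheme.{u}} {S : ShortComplex X.Modules} (hS : S.ShortExact) (W : X.Opens)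
    (m : Γ(S.X₂, W)) (hm : S.g.app W m = 0) : ∃ a, S.f.app W a = m := by
  let ev := SheafOfModules.evaluation X.ringCatSheaf (op W)
  haveI : PreservesFiniteLimits ev :=
    inferInstanceAs (PreservesFiniteLimits (SheafOfModules.forget _ ⋙ PresheafOfModules.evaluation _ (op W)))
  haveI : ev.PreservesZeroMorphisms :=
    inferInstanceAs ((SheafOfModules.forget _ ⋙ PresheafOfModules.evaluation _ (op W)).PreservesZeroMorphisms)
  have h := hS.exact.map_of_mono_of_preservesKernel ev hS.mono_f inferInstance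
  exact (ShortComplex.moduleCat_exact_iff _).1 h m hm

theorem injective_app_of_mono' {X : Scheme.{u}} {M N : X.Modules} (φ : M ⟶ N) [Mono φ] (W : X.Opens) :
    Function.Injective (φ.app W) := by
  let ev := SheafOfModules.evaluation X.ringCatSheaf (op W)
  haveI : PreservesFiniteLimits ev :=
    inferInstanceAs (PreservesFiniteLimits (SheafOfModules.forget _ ⋙ PresheafOfModules.evaluation _ (op W)))
  exact (ModuleCat.mono_iff_injective _).1 (inferInstanceAs (Mono (ev.map φ)))

set_option maxHeartbeats 2000000 in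
theorem exists_conormal_rank {X' X Y : Scheme.{u}} (f : X ⟶ Y) [Smooth f] (j : X' ⟶ X) [IsImmersion j]
    [QuasiCompact j] [Smooth (j ≫ f)] (x : X') :
    ∃ (U : X'.Opens) (n : ℕ), x ∈ U ∧ Nonempty ((Omega.conormal j).restrict U.ι ≅ FlatMod.freeMod (↑U) n) ∧
      FlatMor.fibreDimAt f (j x) = FlatMor.fibreDimAt (j ≫ f) x + (n : WithBot ℕ∞) := by
  obtain ⟨ΩX, d, hd⟩ := exists_isUniversal f
  obtain ⟨Ω', d', hd'⟩ := exists_isUniversal (j ≫ f)
  obtain ⟨φ, hφ, -⟩ := GrMap12.existsUnique_conormalDiff (i := j) d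
  obtain ⟨c, hc, -⟩ := existsUnique_diffCompat (h := j) (f := f) (f' := j ≫ f) (b := 𝟙 Y) (Category.comp_id _) hd d'
  obtain ⟨h0, hex, hepi⟩ := exact_immersion j ΩX d hd Ω' d' hd' φ hφ c hc
  haveI := hepi
  haveI : Mono φ := GrMap12.mono_conormalDiff_of_formallySmooth
    (SmoothLift15.isFormallySmoothHom_of_smooth (j ≫ f)) hd hφ
  let B := (Scheme.Modules.pullback j).obj ΩX
  have hS : (ShortComplex.mk φ c h0).ShortExact := ShortComplex.ShortExact.mk' hex inferInstance inferInstance
  have hBf : FlatMod.IsFinLocFree B :=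
    M2.isFinLocFree_pullback j (isFinLocFree_receptacle_of_smooth f hd)
  obtain ⟨UA, a, hxA, ⟨eA⟩⟩ :=
    DPerf.isFinLocFree_kernel φ c h0 hS hBf (isFinLocFree_receptacle_of_smooth (j ≫ f) hd') x
  obtain ⟨UD, b, hxD, ⟨eD⟩, hb⟩ := exists_free_nbhd_smooth (j ≫ f) hd' x
  obtain ⟨UX, N, hxX, ⟨eX⟩, hN⟩ := exists_free_nbhd_smooth f hd (j x)
  obtain ⟨V, hV, hxV, hVle⟩ := exists_isAffineOpen_mem_and_subset (X := X) (x := j x) (U := UX) hxX
  obtain ⟨W, hW, hxW, hWle⟩ := exists_isAffineOpen_mem_and_subset (X := X') (x := x) (U := UA ⊓ UD ⊓ j ⁻¹ᵁ V)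
    ⟨⟨hxA, hxD⟩, hxV⟩
  refine ⟨UA, a, hxA, ⟨eA⟩, ?_⟩
  rw [hb, hN]
  suffices N = b + a by subst this; push_cast; rfl
  haveI : Nonempty (W : Scheme.{u}) := ⟨⟨x, hxW⟩⟩
  haveI : Nontrivial Γ(X', W) := Scheme.component_nontrivial X' W
  obtain ⟨bA⟩ : Nonempty (Module.Basis (Fin a) Γ(X', W) Γ(Omega.conormal j, W)) := nonempty_basis_sections (M1.isQCoh_pullback j (M2.isQCoh_idealMod _)) eA hW
    (fun y hy => (hWle hy).1.1)
  obtain ⟨bD⟩ := nonempty_basis_sections (isQCoh_receptacle (j ≫ f) hd') eD hW (fun y hy => (hWle hy).1.2)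
  obtain ⟨bX⟩ := nonempty_basis_sections (isQCoh_receptacle f hd) eX hV hVle
  have hle : W ≤ j ⁻¹ᵁ V := fun y hy => (hWle hy).2
  letI : Algebra Γ(X, V) Γ(X', W) := (j.appLE V W hle).hom.toAlgebra
  letI := PullBC11.baseModule (g := j) B hle
  haveI : IsScalarTower Γ(X, V) Γ(X', W) Γ(B, W) := IsScalarTower.of_algebraMap_smul fun _ _ => rfl
  have hBC : IsBaseChange Γ(X', W) (PullBC11.sect (PP12.unitTo j ΩX) hle) :=
    PP12.isBC_unit j (isQCoh_receptacle f hd) hV hW hle
  let bB := (bX.baseChange Γ(X', W)).map hBC.equiv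
  let φW : Γ(Omega.conormal j, W) →ₗ[Γ(X', W)] Γ(B, W) :=
    { toFun := fun m => φ.app W m
      map_add' := fun m m' => map_add _ _ _
      map_smul' := fun r m => Scheme.Modules.Hom.app_smul φ r m }
  let cW : Γ(B, W) →ₗ[Γ(X', W)] Γ(Ω', W) :=
    { toFun := fun m => c.app W m
      map_add' := fun m m' => map_add _ _ _
      map_smul' := fun r m => Scheme.Modules.Hom.app_smul c r m }
  have hinj : Function.Injective φW := injective_app_of_mono' φ W
  have hsurj : Function.Surjective cW := M1.app_surjective_affine_of_isQCoh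
    (M1.isQCoh_pullback j (isQCoh_receptacle f hd)) (isQCoh_receptacle (j ≫ f) hd') c hW
  have hexW : Function.Exact φW cW := fun m => by
    refine ⟨fun hm => exists_app_eq_of_shortExact hS W m hm, ?_⟩
    rintro ⟨t, rfl⟩
    show (φ ≫ c).app W t = 0
    rw [h0]
    simp
  haveI : Module.Free Γ(X', W) Γ(Ω', W) := Module.Free.of_basis bD
  haveI : Module.Free Γ(X', W) Γ(Omega.conormal j, W) := Module.Free.of_basis bA
  haveI : Module.Finite Γ(X', W) Γ(Ω', W) := Module.Finite.of_basis bD
  haveI : Module.Finite Γ(X', W) Γ(Omega.conormal j, W) := Module.Finite.of_basis bA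
  obtain ⟨l, hl⟩ := Module.projective_lifting_property cW LinearMap.id hsurj
  let e := (hexW.splitSurjectiveEquiv hinj ⟨l, hl⟩).1
  have h := e.finrank_eq
  rw [Module.finrank_eq_card_basis bB, Module.finrank_prod, Module.finrank_eq_card_basis bA,
    Module.finrank_eq_card_basis bD] at h
  simpa [add_comm] using h

end Groth.Agent.Omega12
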