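import Groth.Agent.Lib.Omega12.Compat
import Groth.Agent.Lib.Omega12.BaseChange
import Mathlib.CategoryTheory.Abelian.Basic

/-!
# Relative differentials as a cokernel; differentials of a fibre product
-/

set_option autoImplicit false
set_option backward.isDefEq.respectTransparency false
set_option backward.isDefEq.respectTransparency.types false
set_option linter.style.haveILetI false

universe u

open CategoryTheory CategoryTheory.Limits AlgebraicGeometry TopologicalSpace Opposite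

namespace Groth.Agent.Omega12

variable {X Y S : Scheme.{u}} {f : X ⟶ Y} {g : Y ⟶ S} {h : X ⟶ S}
  {ΩY : Y.Modules} {dY : OmegaSh.Der g ΩY} {ΩX : X.Modules} {dX : OmegaSh.Der h ΩX}

theorem appLE_comp_eq (w : f ≫ g = h) {W : S.Opens} (c : Γ(S, W)) (hle : h ⁻¹ᵁ W ≤ f ⁻¹ᵁ (g ⁻¹ᵁ W)) :
    h.app W c = X.presheaf.map (homOfLE hle).op (f.app (g ⁻¹ᵁ W) (g.app W c)) := by
  subst w
  rw [Scheme.Hom.comp_app, CommRingCat.comp_apply]
  exact (ConcreteCategory.congr_hom (X.presheaf.map_id _) _).symm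

/-- The derivation over the middle scheme, with values in the cokernel. -/
noncomputable def relDer (c : (Scheme.Modules.pullback f).obj ΩY ⟶ ΩX) (hc : OmegaSh.IsDiffCompat f dY dX c) :
    OmegaSh.Der f (cokernel c) where
  d {U} := ((cokernel.π c).app U.unop).hom.comp (dX.app U.unop)
  d_mul {U} a b := (dX.postcomp (cokernel.π c).val).d_mul (X := U) a b
  d_map {U V} i x := (dX.postcomp (cokernel.π c).val).d_map i x
  d_app {W} s := by
    show (cokernel.π c).app (f ⁻¹ᵁ W.unop) (dX.app _ (f.app W.unop s)) = 0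
    rw [← hc W.unop s]
    exact congrArg (fun ψ => ψ.app (f ⁻¹ᵁ W.unop) (OmegaSh.pullSect f ΩY W.unop (dY.app W.unop s)))
      (cokernel.condition c)

theorem relDer_app (c : (Scheme.Modules.pullback f).obj ΩY ⟶ ΩX) (hc : OmegaSh.IsDiffCompat f dY dX c)
    (U : X.Opens) (s : Γ(X, U)) : (relDer c hc).app U s = (cokernel.π c).app U (dX.app U s) := rfl

theorem isUniversal_relDer (w : f ≫ g = h) (hY : OmegaSh.IsUniversal dY) (hX : OmegaSh.IsUniversal dX)
    (c : (Scheme.Modules.pullback f).obj ΩY ⟶ ΩX) (hc : OmegaSh.IsDiffCompat f dY dX c) :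
    OmegaSh.IsUniversal (relDer c hc) := by
  intro F E
  let E' : OmegaSh.Der h F :=
    { d := fun {U} => E.app U.unop
      d_mul := fun {U} a b => E.d_mul (X := U) a b
      d_map := fun {U V} i x => E.d_map i x
      d_app := fun {W} s => by
        show E.app (h ⁻¹ᵁ W.unop) (h.app W.unop s) = 0
        have hle : h ⁻¹ᵁ W.unop ≤ f ⁻¹ᵁ (g ⁻¹ᵁ W.unop) := by subst w; exact le_rfl
        rw [appLE_comp_eq w s hle]
        refine (E.d_map (homOfLE hle).op _).trans ?_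
        rw [show E.d (X := op (f ⁻¹ᵁ (g ⁻¹ᵁ W.unop))) (f.app (g ⁻¹ᵁ W.unop) (g.app W.unop s)) = 0 from
          E.d_app (X := op (g ⁻¹ᵁ W.unop)) _]
        exact map_zero _ }
  obtain ⟨α, hα, -⟩ := hX F E'
  have hval : ∀ (U : X.Opens) (s : Γ(X, U)), α.app U (dX.app U s) = E.app U s := fun U s =>
    congrArg (fun D => OmegaSh.Der.app D U s) hα
  have h0 : c ≫ α = 0 := by
    apply ((Scheme.Modules.pullbackPushforwardAdjunction f).homEquiv _ _).injective
    refine hom_ext_der _ hY fun U s => ?_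
    rw [Adjunction.homEquiv_unit, Adjunction.homEquiv_unit]
    show α.app (f ⁻¹ᵁ U) (c.app (f ⁻¹ᵁ U) (OmegaSh.pullSect f ΩY U (dY.app U s))) = _
    rw [hc U s, hval]
    exact (E.d_app (X := op U) s).trans (by simp)
  refine ⟨cokernel.desc c α h0, der_ext f fun U s => ?_, fun β hβ => ?_⟩
  · show (cokernel.desc c α h0).app U ((cokernel.π c).app U (dX.app U s)) = E.app U s
    rw [← hval]
    exact congrArg (fun φ => Scheme.Modules.Hom.app φ U (dX.app U s)) (cokernel.π_desc c α h0)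
  · refine (cancel_epi (cokernel.π c)).1 (hom_ext_der _ hX fun U s => ?_)
    rw [cokernel.π_desc, hval]
    exact congrArg (fun D => OmegaSh.Der.app D U s) hβ

variable {Z : Scheme.{u}} {p : Z ⟶ X} {q : Z ⟶ Y} {a : X ⟶ S} {k : Z ⟶ S}
  {Ω₁ : X.Modules} {d₁ : OmegaSh.Der a Ω₁} {Ω : Z.Modules} {d : OmegaSh.Der k Ω}

theorem isIso_comp_cokernel (wq : q ≫ g = k) (hsq : IsPullback p q a g) (h₁ : OmegaSh.IsUniversal d₁)
    (h₂ : OmegaSh.IsUniversal dY) (hd : OmegaSh.IsUniversal d)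
    (c₁ : (Scheme.Modules.pullback p).obj Ω₁ ⟶ Ω) (hc₁ : OmegaSh.IsDiffCompat p d₁ d c₁)
    (c₂ : (Scheme.Modules.pullback q).obj ΩY ⟶ Ω) (hc₂ : OmegaSh.IsDiffCompat q dY d c₂) :
    IsIso (c₁ ≫ cokernel.π c₂) :=
  isIso_diffCompat_of_isPullback hsq h₁ (isUniversal_relDer wq h₂ hd c₂ hc₂) _ fun U s =>
    congrArg ((cokernel.π c₂).app (p ⁻¹ᵁ U)) (hc₁ U s)

theorem isIso_coprodDesc (wp : p ≫ a = k) (wq : q ≫ g = k) (hsq : IsPullback p q a g) (h₁ : OmegaSh.IsUniversal d₁)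
    (h₂ : OmegaSh.IsUniversal dY) (hd : OmegaSh.IsUniversal d)
    (c₁ : (Scheme.Modules.pullback p).obj Ω₁ ⟶ Ω) (hc₁ : OmegaSh.IsDiffCompat p d₁ d c₁)
    (c₂ : (Scheme.Modules.pullback q).obj ΩY ⟶ Ω) (hc₂ : OmegaSh.IsDiffCompat q dY d c₂) :
    IsIso (coprod.desc c₁ c₂) := by
  haveI e₁ : IsIso (c₁ ≫ cokernel.π c₂) := isIso_comp_cokernel wq hsq h₁ h₂ hd c₁ hc₁ c₂ hc₂
  haveI e₂ : IsIso (c₂ ≫ cokernel.π c₁) := isIso_comp_cokernel wp hsq.flip h₂ h₁ hd c₂ hc₂ c₁ hc₁
  haveI : IsSplitMono (coprod.desc c₁ c₂) := IsSplitMono.mk'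
    { retraction := cokernel.π c₂ ≫ inv (c₁ ≫ cokernel.π c₂) ≫ coprod.inl +
        cokernel.π c₁ ≫ inv (c₂ ≫ cokernel.π c₁) ≫ coprod.inr
      id := by
        apply coprod.hom_ext
        · rw [coprod.inl_desc_assoc, Preadditive.comp_add, cokernel.condition_assoc, zero_comp, add_zero,
            ← Category.assoc c₁, IsIso.hom_inv_id_assoc, Category.comp_id]
        · rw [coprod.inr_desc_assoc, Preadditive.comp_add, cokernel.condition_assoc, zero_comp, zero_add,
            ← Category.assoc c₂, IsIso.hom_inv_id_assoc, Category.comp_id] }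
  haveI : Epi (coprod.desc c₁ c₂) := Preadditive.epi_of_cancel_zero _ fun φ hφ => by
    have h1 : c₁ ≫ φ = 0 := by rw [← coprod.inl_desc c₁ c₂, Category.assoc, hφ, comp_zero]
    have h2 : c₂ ≫ φ = 0 := by rw [← coprod.inr_desc c₁ c₂, Category.assoc, hφ, comp_zero]
    have h3 : (c₁ ≫ cokernel.π c₂) ≫ cokernel.desc c₂ φ h2 = 0 := by
      rw [Category.assoc, cokernel.π_desc, h1]
    rw [← cokernel.π_desc c₂ φ h2, (cancel_epi (c₁ ≫ cokernel.π c₂)).1 (h3.trans comp_zero.symm), comp_zero]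
  exact isIso_of_mono_of_epi _

end Groth.Agent.Omega12
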