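import Groth.Agent.Lib.Omega12.BaseChange
import Groth.Agent.Lib.PP12.AffineOps
import Groth.Agent.Lib.FormSmooth4.Lift
import Mathlib.RingTheory.Kaehler.JacobiZariski
import Mathlib.RingTheory.Smooth.Basic

/-!
# For a formally smooth morphism the map of differentials is a monomorphism

`mono_diffCompat_of_formallySmooth`.
-/

set_option autoImplicit false
set_option backward.isDefEq.respectTransparency false
set_option backward.isDefEq.respectTransparency.types false
set_option linter.style.haveILetI false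

universe u

open CategoryTheory CategoryTheory.Limits AlgebraicGeometry TopologicalSpace Opposite TensorProduct

namespace Groth.Agent.Omega12

variable {X Y S : Scheme.{u}} {g : Y ⟶ S} {h : X ⟶ S} {f : X ⟶ Y}
  {ΩY : Y.Modules} {dY : OmegaSh.Der g ΩY} {ΩX : X.Modules} {dX : OmegaSh.Der h ΩX}

set_option maxHeartbeats 1000000 in
theorem injective_app_chart (w : f ≫ g = h) (hY : OmegaSh.IsUniversal dY) (hX : OmegaSh.IsUniversal dX)
    {c : (Scheme.Modules.pullback f).obj ΩY ⟶ ΩX} (hc : OmegaSh.IsDiffCompat f dY dX c)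
    {U : X.Opens} (hU : IsAffineOpen U) {V : Y.Opens} (hV : IsAffineOpen V) {W : S.Opens} (hW : IsAffineOpen W)
    (e : U ≤ f ⁻¹ᵁ V) (e' : V ≤ g ⁻¹ᵁ W) (hfs : (f.appLE V U e).hom.FormallySmooth) :
    Function.Injective (c.app U) := by
  have e'' : U ≤ h ⁻¹ᵁ W := by subst w; exact e.trans (f.preimage_mono e')
  letI a1 : Algebra Γ(S, W) Γ(Y, V) := (g.appLE W V e').hom.toAlgebra
  letI a2 : Algebra Γ(Y, V) Γ(X, U) := (f.appLE V U e).hom.toAlgebra
  letI a3 : Algebra Γ(S, W) Γ(X, U) := (h.appLE W U e'').hom.toAlgebra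
  haveI : IsScalarTower Γ(S, W) Γ(Y, V) Γ(X, U) := IsScalarTower.of_algebraMap_eq fun r => by
    show h.appLE W U e'' r = f.appLE V U e (g.appLE W V e' r)
    subst w
    rw [← CategoryTheory.comp_apply, Scheme.Hom.appLE_comp_appLE]
  haveI : Algebra.FormallySmooth Γ(Y, V) Γ(X, U) := RingHom.formallySmooth_algebraMap.1 hfs
  haveI : Subsingleton (Algebra.H1Cotangent Γ(Y, V) Γ(X, U)) := Algebra.FormallySmooth.subsingleton_h1Cotangent
  have hinj : Function.Injective (KaehlerDifferential.mapBaseChange Γ(S, W) Γ(Y, V) Γ(X, U)) := by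
    rw [injective_iff_map_eq_zero]
    intro x hx
    obtain ⟨y, rfl⟩ := (Algebra.H1Cotangent.exact_δ_mapBaseChange Γ(S, W) Γ(Y, V) Γ(X, U) x).1 hx
    rw [Subsingleton.elim y 0, map_zero]
  let N := (Scheme.Modules.pullback f).obj ΩY
  letI := PullBC11.baseModule (g := f) N e
  haveI : IsScalarTower Γ(Y, V) Γ(X, U) Γ(N, U) := IsScalarTower.of_algebraMap_smul fun _ _ => rfl
  have hBC : IsBaseChange Γ(X, U) (PullBC11.sect (PP12.unitTo f ΩY) e) :=
    PP12.isBC_unit f (isQCoh_receptacle g hY) hV hU e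
  let eY := sectLinEquiv g hY hV hW e'
  let eX := sectLinEquiv h hX hU hW e''
  let E := (LinearEquiv.baseChange Γ(Y, V) Γ(X, U) _ _ eY).trans hBC.equiv
  have key : ∀ z, c.app U (E z) = eX (KaehlerDifferential.mapBaseChange Γ(S, W) Γ(Y, V) Γ(X, U) z) := fun z => by
    induction z using TensorProduct.induction_on with
    | zero => simp
    | tmul b ξ =>
      have hE : E (b ⊗ₜ ξ) = b • PullBC11.sect (PP12.unitTo f ΩY) e (eY ξ) := hBC.equiv_tmul _ _
      rw [hE, Scheme.Modules.Hom.app_smul, KaehlerDifferential.mapBaseChange_tmul, map_smul]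
      congr 1
      have hξ : ξ ∈ Submodule.span Γ(Y, V) (Set.range (KaehlerDifferential.D Γ(S, W) Γ(Y, V))) := by
        rw [KaehlerDifferential.span_range_derivation]; trivial
      clear hE
      induction hξ using Submodule.span_induction with
      | mem y hy =>
        obtain ⟨s, rfl⟩ := hy
        rw [KaehlerDifferential.map_D, sectLinEquiv_D, sectLinEquiv_D]
        show c.app U (M1.mres N e (OmegaSh.pullSect f ΩY V (dY.app V s))) = dX.app U (f.appLE V U e s)
        rw [M1.app_mres, hc V s]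
        exact (dX.d_map (homOfLE e).op (f.app V s)).symm
      | zero => simp
      | add a a' _ _ ha ha' =>
        rw [eY.map_add, LinearMap.map_add, LinearMap.map_add, eX.map_add]
        exact (map_add (c.app U).hom _ _).trans (congrArg₂ (· + ·) ha ha')
      | smul r a _ ha =>
        rw [eY.map_smul, LinearMap.map_smul, LinearMap.map_smul]
        show c.app U (algebraMap Γ(Y, V) Γ(X, U) r • PullBC11.sect (PP12.unitTo f ΩY) e (eY a)) = _
        rw [Scheme.Modules.Hom.app_smul, ha, ← algebraMap_smul Γ(X, U) r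
          (KaehlerDifferential.map Γ(S, W) Γ(S, W) Γ(Y, V) Γ(X, U) a), map_smul]
    | add a a' ha ha' => simp only [map_add, ha, ha']
  intro a b hab
  obtain ⟨a', rfl⟩ := E.surjective a
  obtain ⟨b', rfl⟩ := E.surjective b
  rw [key, key] at hab
  exact congrArg E (hinj (eX.injective hab))

theorem mono_diffCompat_of_formallySmooth (w : f ≫ g = h) (hf : MoreMor.IsFormallySmoothHom f)
    (hY : OmegaSh.IsUniversal dY) (hX : OmegaSh.IsUniversal dX)
    {c : (Scheme.Modules.pullback f).obj ΩY ⟶ ΩX} (hc : OmegaSh.IsDiffCompat f dY dX c) : Mono c := by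
  let P : X.affineOpens → Prop := fun U => ∃ (V : Y.Opens) (W : S.Opens), IsAffineOpen V ∧ IsAffineOpen W ∧
    U.1 ≤ f ⁻¹ᵁ V ∧ V ≤ g ⁻¹ᵁ W
  have hP : KoszShH13.IsAffBasis P := fun O x hx => by
    obtain ⟨W, V, hW, hV, hxV, -, hVW⟩ := Omega26.exists_chart g (f x) ⊤ trivial
    obtain ⟨U, hU, hxU, hUO⟩ := exists_isAffineOpen_mem_and_subset (X := X) (x := x) (U := O ⊓ f ⁻¹ᵁ V) ⟨hx, hxV⟩
    exact ⟨⟨U, hU⟩, ⟨V, W, hV, hW, fun y hy => (hUO hy).2, hVW⟩, hxU, fun y hy => (hUO hy).1⟩
  refine Preadditive.mono_of_cancel_zero _ fun {F} α hα => KoszShH13.hom_ext_basis hP fun U hU m => ?_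
  obtain ⟨V, W, hV, hW, e, e'⟩ := hU
  refine injective_app_chart w hY hX hc U.2 hV hW e e' ((FormSmooth4.isFormallySmoothHom_iff f).1 hf U.1 V U.2 hV e) ?_
  show (α ≫ c).app U.1 m = c.app U.1 ((0 : F ⟶ _).app U.1 m)
  rw [hα, show (0 : F ⟶ (Scheme.Modules.pullback f).obj ΩY).app U.1 m = 0 from by simp, map_zero]
  simp

end Groth.Agent.Omega12
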