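import Groth.Agent.Lib.Omega12.SmoothRank
import Groth.Agent.Lib.Omega12.Restrict
import Groth.Agent.Lib.SmoothPt12.Basic
import Groth.Agent.Lib.HomShH7.LocFree
import Groth.Agent.Lib.CI2.NearFibre
import Groth.Agent.S2063

/-!
# Smoothness from flatness and the rank of the differentials

`smoothLocus_specT_of_flat`, `mem_smoothLocus_iff_flat_and_free`.
-/

set_option autoImplicit false
set_option backward.isDefEq.respectTransparency false
set_option backward.isDefEq.respectTransparency.types false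
set_option linter.style.haveILetI false

universe u

open CategoryTheory CategoryTheory.Limits AlgebraicGeometry TopologicalSpace Opposite TensorProduct

namespace Groth.Agent.Omega12

open FibreLocus

set_option maxHeartbeats 1000000 in
theorem smoothLocus_specT_of_flat {B C : Type u} [CommRing B] [CommRing C] [Algebra B C]
    [Algebra.FinitePresentation B C] [LocallyOfFinitePresentation (specT B C)] (q : ↥(Spec (CommRingCat.of C)))
    (hflat : FlatPt (specT B C) q) (n : ℕ) (b : Module.Basis (Fin n) C (KaehlerDifferential B C))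
    (hn : FlatMor.fibreDimAt (specT B C) q = (n : WithBot ℕ∞)) :
    (show PrimeSpectrum C from q) ∈ Algebra.smoothLocus B C := by
  refine (Descend.mem_smoothLocus_SpecMap_iff q).1
    ((SmoothPt12.smoothPt_iff_mem (specT B C) q).1 (smoothPt_of_flatPt_of_fibre q hflat ?_))
  let qq : PrimeSpectrum C := q
  let pp : PrimeSpectrum B := PrimeSpectrum.comap (algebraMap B C) qq
  let K := pp.asIdeal.ResidueField
  let C' := pp.asIdeal.Fiber C
  have hX : IsPullback (Spec.map (CommRingCat.ofHom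
      (Algebra.TensorProduct.includeRight (R := B) (A := K) (B := C)).toRingHom))
      (specT K C') (specT B C) (specT B K) := isPullback_specT_tensor B K C
  let e := PrimeSpectrum.preimageHomeomorphFiber B C pp
  let z : PrimeSpectrum C' := e ⟨qq, rfl⟩
  have hz : PrimeSpectrum.comap (Algebra.TensorProduct.includeRight (R := B) (A := K) (B := C)).toRingHom z = qq :=
    congrArg Subtype.val (e.symm_apply_apply ⟨qq, rfl⟩)
  have hz' : Spec.map (CommRingCat.ofHom (Algebra.TensorProduct.includeRight (R := B) (A := K) (B := C)).toRingHom) z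
      = q := hz
  haveI : Algebra.FinitePresentation K C' :=
    inferInstanceAs (Algebra.FinitePresentation K (K ⊗[B] C))
  haveI : LocallyOfFinitePresentation (specT K C') :=
    (LocallyOfFinitePresentation.SpecMap_iff _).2 (RingHom.finitePresentation_algebraMap.2 inferInstance)
  rw [← hz', mem_fibSet_iff_of_field (specT B C) (𝟙 _) isPtLocal_smoothPt K (specT B K)
    (qY := specT B K) (gK := 𝟙 _) IsPullback.of_id_fst.flip hX z]
  refine (SmoothPt12.smoothPt_iff_mem (specT K C') z).2 ((Descend.mem_smoothLocus_SpecMap_iff _).2 ?_)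
  show Algebra.IsSmoothAt K z.asIdeal
  letI : Algebra C C' := Algebra.TensorProduct.rightAlgebra
  haveI : IsScalarTower B C C' := IsScalarTower.of_algebraMap_eq fun r => by
    show algebraMap B K r ⊗ₜ[B] (1 : C) = (1 : K) ⊗ₜ[B] algebraMap B C r
    rw [Algebra.algebraMap_eq_smul_one, TensorProduct.smul_tmul, Algebra.algebraMap_eq_smul_one]
  haveI : Algebra.IsPushout B K C C' := inferInstanceAs (Algebra.IsPushout B K C (K ⊗[B] C))
  let b' : Module.Basis (Fin n) C' (KaehlerDifferential K C') :=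
    (b.baseChange C').map (KaehlerDifferential.tensorKaehlerEquiv B K C C')
  rw [S2063.result z.asIdeal, Module.finrank_eq_card_basis (b'.baseChange z.asIdeal.ResidueField), Fintype.card_fin]
  refine le_of_eq ?_
  have hld := CI2.localDim_fibre_eq B C pp z
  rw [show PrimeSpectrum.comap (Algebra.TensorProduct.includeRight : C →ₐ[B] pp.asIdeal.Fiber C).toRingHom z = qq
    from hz] at hld
  exact (hld.trans hn).symm

/-- Sections over an affine open inside an open on which the module is free of rank `n`. -/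
theorem nonempty_basis_sections {X : Scheme.{u}} {M : X.Modules} {U : X.Opens} {n : ℕ} (hM : Coh.IsQCoh M)
    (e : M.restrict U.ι ≅ FlatMod.freeMod (U : Scheme.{u}) n) {W : X.Opens} (hW : IsAffineOpen W) (hWU : W ≤ U) :
    Nonempty (Module.Basis (Fin n) Γ(X, W) Γ(M, W)) := by
  haveI := hM
  have h : Set.range hW.fromSpec ⊆ Set.range U.ι := by
    rw [IsAffineOpen.range_fromSpec, Scheme.Opens.range_ι]; exact hWU
  let l := IsOpenImmersion.lift U.ι hW.fromSpec h
  let e' : M.restrict hW.fromSpec ≅ (tilde.functor Γ(X, W)).obj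
      (ModuleCat.of Γ(X, W) (ULift.{u} (Fin n) →₀ Γ(X, W))) :=
    (M1.restrictLiftIso M U.ι hW.fromSpec h).symm ≪≫
    (Scheme.Modules.restrictFunctor l).mapIso (e ≪≫ M1.freeModFrIso _ _) ≪≫
      (M1.frRestrictIso l _).symm ≪≫ (M1.frTildeIso _).symm
  let L := ((tilde.isoTop _ ≪≫ moduleSpecΓFunctor.mapIso e'.symm).toLinearEquiv).trans (M1.affineSecEquiv M hW)
  exact ⟨(Module.Basis.ofRepr L.symm).reindex Equiv.ulift⟩

theorem flat_localRingHom_congr {R S : Type u} [CommRing R] [CommRing S] (φ : R →+* S) (q : Ideal S) [q.IsPrime]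
    {I J : Ideal R} [I.IsPrime] [J.IsPrime] (hI : I = q.comap φ) (hJ : J = q.comap φ)
    (h : (Localization.localRingHom I q φ hI).Flat) : (Localization.localRingHom J q φ hJ).Flat := by
  subst hI; subst hJ; exact h

set_option maxHeartbeats 1000000 in
/-- Smoothness on a chart on which the differentials are free of rank the fibre dimension. -/
theorem mem_smoothLocus_of_basis {X Y : Scheme.{u}} (f : X ⟶ Y) [LocallyOfFinitePresentation f]
    {Ω' : X.Modules} {d : OmegaSh.Der f Ω'} (hd : OmegaSh.IsUniversal d) {x : X} (hfl : (f.stalkMap x).hom.Flat)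
    {W : Y.Opens} (hW : IsAffineOpen W) {V : X.Opens} (hV : IsAffineOpen V) (hVW : V ≤ f ⁻¹ᵁ W) (hxV : x ∈ V)
    (n : ℕ) (b₀ : Module.Basis (Fin n) Γ(X, V) Γ(Ω', V)) (hn : FlatMor.fibreDimAt f x = (n : WithBot ℕ∞)) :
    x ∈ f.smoothLocus := by
    rw [Scheme.Hom.mem_smoothLocus, formallySmooth_stalkMap_iff W hW V hV hVW hxV]
    letI : Algebra Γ(Y, W) Γ(X, V) := (f.appLE W V hVW).hom.toAlgebra
    haveI : Algebra.FinitePresentation Γ(Y, W) Γ(X, V) := f.finitePresentation_appLE hW hV hVW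
    haveI : LocallyOfFinitePresentation (specT Γ(Y, W) Γ(X, V)) :=
      (LocallyOfFinitePresentation.SpecMap_iff _).2 (RingHom.finitePresentation_algebraMap.2 inferInstance)
    let q := hV.primeIdealOf ⟨x, hxV⟩
    have hq : hV.fromSpec q = x := hV.fromSpec_primeIdealOf ⟨x, hxV⟩
    let b : Module.Basis (Fin n) Γ(X, V) (KaehlerDifferential Γ(Y, W) Γ(X, V)) :=
      b₀.map (sectLinEquiv f hd hV hW hVW).symm
    refine smoothLocus_specT_of_flat q ?_ n b ?_
    · exact (RingHom.Flat.respectsIso.arrow_mk_iso_iff (Scheme.arrowStalkMapSpecIso _ q)).2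
        (flat_localRingHom_congr (f.appLE W V hVW).hom q.asIdeal
          (congrArg PrimeSpectrum.asIdeal (IsAffineOpen.comap_primeIdealOf_appLE W hW V hV hVW hxV)).symm rfl <|
          (RingHom.Flat.respectsIso.arrow_mk_iso_iff (IsAffineOpen.arrowStalkMapIso f W hW V hV hVW hxV)).1 hfl)
    · rw [← hq] at hn
      refine Eq.trans ?_ hn
      rw [← FibDim14.fibreDimAt_etale_comp hV.fromSpec f q,
        show hV.fromSpec ≫ f = specT Γ(Y, W) Γ(X, V) ≫ hW.fromSpec from
          (IsAffineOpen.SpecMap_appLE_fromSpec f hW hV hVW).symm, FibDim14.fibreDimAt_comp_lqf]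


set_option maxHeartbeats 1000000 in
/-- A morphism is smooth at a point iff it is flat there and the differentials are free of rank the fibre
dimension nearby. -/
theorem mem_smoothLocus_iff_flat_and_free {X Y : Scheme.{u}} (f : X ⟶ Y) [LocallyOfFinitePresentation f]
    {Ω' : X.Modules} {d : OmegaSh.Der f Ω'} (hd : OmegaSh.IsUniversal d) (x : X) :
    x ∈ f.smoothLocus ↔
      (f.stalkMap x).hom.Flat ∧
        ∃ (U : X.Opens) (n : ℕ), x ∈ U ∧ Nonempty (Ω'.restrict U.ι ≅ FlatMod.freeMod (↑U) n) ∧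
          FlatMor.fibreDimAt f x = (n : WithBot ℕ∞) := by
  constructor
  · intro hx
    refine ⟨smoothPt_flatPt ((SmoothPt12.smoothPt_iff_mem f x).2 hx), ?_⟩
    obtain ⟨W, hxW, hW⟩ := (SmoothPt12.smoothPt_iff_mem f x).2 hx
    haveI := hW
    obtain ⟨U₁, n, hxU₁, ⟨e⟩, hn⟩ := exists_free_nbhd_smooth (W.ι ≫ f) (isUniversal_resDer f hd W) ⟨x, hxW⟩
    haveI : Etale W.ι := inferInstance
    rw [FibDim14.fibreDimAt_etale_comp] at hn
    obtain ⟨U, m, hxU, hiso⟩ := M1.exists_freeMod_of_openImmersion (M := Ω') (U₁.ι ≫ W.ι)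
      ((M1.restrictRestrictIso Ω' W.ι U₁.ι _ rfl).symm ≪≫ e ≪≫ M1.freeModFrIso _ n) ⟨⟨x, hxW⟩, hxU₁⟩
    obtain ⟨e'⟩ := M1.nonempty_fr_freeMod ((U₁.ι ≫ W.ι).opensRange : Scheme.{u}) (ULift.{u} (Fin n))
    rw [Nat.card_ulift, Nat.card_fin] at e'
    have h : Set.range (U₁.ι ≫ W.ι).opensRange.ι ⊆ Set.range (U₁.ι ≫ W.ι) := by
      rw [Scheme.Opens.range_ι]; rfl
    refine ⟨(U₁.ι ≫ W.ι).opensRange, n, ⟨⟨⟨x, hxW⟩, hxU₁⟩, rfl⟩, ⟨?_⟩, hn⟩
    exact (M1.restrictLiftIso _ (U₁.ι ≫ W.ι) (U₁.ι ≫ W.ι).opensRange.ι h).symm ≪≫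
      (Scheme.Modules.restrictFunctor (IsOpenImmersion.lift (U₁.ι ≫ W.ι) (U₁.ι ≫ W.ι).opensRange.ι h)).mapIso
        ((M1.restrictRestrictIso Ω' W.ι U₁.ι _ rfl).symm ≪≫ e ≪≫ M1.freeModFrIso _ n) ≪≫
      (M1.frRestrictIso _ _).symm ≪≫ e'
  · rintro ⟨hfl, U, n, hxU, ⟨e⟩, hn⟩
    obtain ⟨W, hW, hxW, -⟩ := exists_isAffineOpen_mem_and_subset (X := Y) (x := f x) (U := ⊤) trivial
    obtain ⟨V, hV, hxV, hVle⟩ := exists_isAffineOpen_mem_and_subset (X := X) (x := x) (U := U ⊓ f ⁻¹ᵁ W) ⟨hxU, hxW⟩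
    have hVW : V ≤ f ⁻¹ᵁ W := fun y hy => (hVle hy).2
    obtain ⟨b₀⟩ := nonempty_basis_sections (isQCoh_receptacle f hd) e hV (fun y hy => (hVle hy).1)
    exact mem_smoothLocus_of_basis f hd hfl hW hV hVW hxV n b₀ hn

end Groth.Agent.Omega12
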