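import Groth.Agent.Lib.Omega12.SmoothCrit
import Groth.Agent.Lib.Omega12.BaseChange
import Groth.Agent.Lib.Omega12.Exists
import Groth.Agent.Lib.GrpDim20.Basic
import Groth.Agent.Lib.SmoothReg17.Basic
import Groth.Agent.Lib.Goren15.Scheme
import Groth.Agent.Lib.Miracle4
import Groth.Agent.Lib.RegLoc.UFD
import Groth.Agent.Lib.PP12.AffineOps

/-!
# Smoothness over a regular base from the differentials and the dimension formula

`asFiber_mem_smoothLocus`, `isRegularLocalRing_of_fibre`, `flat_stalkMap_of_free`.
-/

set_option autoImplicit false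
set_option backward.isDefEq.respectTransparency false
set_option backward.isDefEq.respectTransparency.types false
set_option linter.style.haveILetI false

universe u

open CategoryTheory CategoryTheory.Limits AlgebraicGeometry TopologicalSpace Opposite TensorProduct IsLocalRing

namespace Groth.Agent.Omega12

variable {X Y : Scheme.{u}} (f : X ⟶ Y) [LocallyOfFinitePresentation f] {Ω' : X.Modules} {d : OmegaSh.Der f Ω'}

set_option maxHeartbeats 1000000 in
/-- The fibre is smooth where the differentials are free of rank the fibre dimension. -/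
theorem asFiber_mem_smoothLocus {x : X} [LocallyOfFinitePresentation (f.fiberToSpecResidueField (f x))]
    (hd : OmegaSh.IsUniversal d) {U : X.Opens} {n : ℕ} (hxU : x ∈ U)
    (e : Ω'.restrict U.ι ≅ FlatMod.freeMod (U : Scheme.{u}) n)
    (hn : FlatMor.fibreDimAt f x = (n : WithBot ℕ∞)) :
    f.asFiber x ∈ (f.fiberToSpecResidueField (f x)).smoothLocus := by
  let g := f.fiberToSpecResidueField (f x)
  let z := f.asFiber x
  have hsq : IsPullback (f.fiberι (f x)) g f (Y.fromSpecResidueField (f x)) := IsPullback.of_hasPullback _ _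
  obtain ⟨ΩF, dF, hdF⟩ := exists_isUniversal g
  obtain ⟨c, hc, -⟩ := existsUnique_diffCompat (h := f.fiberι (f x)) hsq.w.symm hd dF
  haveI := isIso_diffCompat_of_isPullback hsq hd hdF c hc
  obtain ⟨V, hV, hxV, hVU⟩ := exists_isAffineOpen_mem_and_subset (X := X) (x := x) (U := U) hxU
  have hzV : z ∈ f.fiberι (f x) ⁻¹ᵁ V := by
    show f.fiberι (f x) (f.asFiber x) ∈ V
    rw [f.fiberι_asFiber]; exact hxV
  obtain ⟨V', hV', hzV', hle⟩ := exists_isAffineOpen_mem_and_subset (X := f.fiber (f x)) (x := z)
    (U := f.fiberι (f x) ⁻¹ᵁ V) hzV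
  obtain ⟨b⟩ := nonempty_basis_sections (isQCoh_receptacle f hd) e hV hVU
  let N := (Scheme.Modules.pullback (f.fiberι (f x))).obj Ω'
  letI : Algebra Γ(X, V) Γ(f.fiber (f x), V') := ((f.fiberι (f x)).appLE V V' hle).hom.toAlgebra
  letI := PullBC11.baseModule (g := f.fiberι (f x)) N hle
  haveI : IsScalarTower Γ(X, V) Γ(f.fiber (f x), V') Γ(N, V') := IsScalarTower.of_algebraMap_smul fun _ _ => rfl
  have hBC : IsBaseChange Γ(f.fiber (f x), V') (PullBC11.sect (PP12.unitTo (f.fiberι (f x)) Ω') hle) :=
    PP12.isBC_unit (f.fiberι (f x)) (isQCoh_receptacle f hd) hV hV' hle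
  let ψ : Γ(N, V') →ₗ[Γ(f.fiber (f x), V')] Γ(ΩF, V') :=
    { toFun := fun m => c.app V' m
      map_add' := fun m m' => map_add _ _ _
      map_smul' := fun r m => Scheme.Modules.Hom.app_smul c r m }
  have hψ : Function.Bijective ψ := by
    haveI : IsIso (c.app V') := Scheme.Modules.Hom.isIso_iff_isIso_app.1 inferInstance _
    exact ConcreteCategory.bijective_of_isIso (c.app V')
  let b' := ((b.baseChange Γ(f.fiber (f x), V')).map hBC.equiv).map (LinearEquiv.ofBijective ψ hψ)
  refine mem_smoothLocus_of_basis g hdF ?_ (isAffineOpen_top _) hV' le_top hzV' n b' ?_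
  · haveI : Flat g := inferInstance
    exact Flat.stalkMap g z
  · refine Eq.trans ?_ hn
    exact (GrpDim20.fibreDimAt_point g z).trans rfl

/-- A local ring with regular closed fibre over a regular local ring, of the expected dimension, is regular. -/
theorem isRegularLocalRing_of_fibre {A B : Type u} [CommRing A] [IsRegularLocalRing A] [CommRing B] [IsLocalRing B]
    [IsNoetherianRing B] [Algebra A B] [IsLocalHom (algebraMap A B)]
    [IsRegularLocalRing (B ⧸ (maximalIdeal A).map (algebraMap A B))]
    (hdim : ringKrullDim B = ringKrullDim A + ringKrullDim (B ⧸ (maximalIdeal A).map (algebraMap A B))) :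
    IsRegularLocalRing B := by
  let J := (maximalIdeal A).map (algebraMap A B)
  let F := B ⧸ J
  refine IsRegularLocalRing.of_spanFinrank_maximalIdeal_le (R := B) ?_
  rw [hdim, ← IsRegularLocalRing.spanFinrank_maximalIdeal (R := A),
    ← IsRegularLocalRing.spanFinrank_maximalIdeal (R := F)]
  have hA : (maximalIdeal A).FG := IsNoetherian.noetherian _
  have hF : (maximalIdeal F).FG := IsNoetherian.noetherian _
  let lift := Function.surjInv (Ideal.Quotient.mk_surjective (I := J))
  let sA := Submodule.generators (maximalIdeal A)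
  let sF := Submodule.generators (maximalIdeal F)
  have hfA : sA.Finite := Submodule.FG.finite_generators hA
  have hfF : sF.Finite := Submodule.FG.finite_generators hF
  have hspan : maximalIdeal B = Ideal.span (algebraMap A B '' sA ∪ lift '' sF) := by
    haveI : IsLocalHom (Ideal.Quotient.mk J) := IsLocalHom.of_surjective _ Ideal.Quotient.mk_surjective
    have h1 : Ideal.span (algebraMap A B '' sA) = J := by
      rw [← Ideal.map_span]
      exact congrArg _ (Submodule.span_generators (maximalIdeal A))
    have h2 : (Ideal.span (lift '' sF)).map (Ideal.Quotient.mk J) = maximalIdeal F := by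
      rw [Ideal.map_span, ← Set.image_comp,
        show Ideal.Quotient.mk J ∘ lift = id from funext (Function.surjInv_eq _), Set.image_id]
      exact Submodule.span_generators (maximalIdeal F)
    rw [Ideal.span_union, h1, sup_comm]
    have h3 := congrArg (Ideal.comap (Ideal.Quotient.mk J)) h2
    rw [Ideal.comap_map_of_surjective _ Ideal.Quotient.mk_surjective, ← RingHom.ker_eq_comap_bot, Ideal.mk_ker,
      IsLocalRing.maximalIdeal_comap] at h3
    exact h3.symm
  have hle : (maximalIdeal B).spanFinrank ≤ (maximalIdeal A).spanFinrank + (maximalIdeal F).spanFinrank := by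
    rw [hspan, ← Submodule.FG.generators_ncard hA, ← Submodule.FG.generators_ncard hF]
    exact (Submodule.spanFinrank_span_le_ncard_of_finite ((hfA.image _).union (hfF.image _))).trans
      ((Set.ncard_union_le _ _).trans (Nat.add_le_add (Set.ncard_image_le hfA) (Set.ncard_image_le hfF)))
  exact_mod_cast hle

set_option maxHeartbeats 1000000 in
theorem flat_stalkMap_of_free [IsLocallyNoetherian Y] (hd : OmegaSh.IsUniversal d) {x : X}
    (hreg : IsRegularLocalRing (Y.presheaf.stalk (f x))) {U : X.Opens} {n : ℕ} (hxU : x ∈ U)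
    (e : Ω'.restrict U.ι ≅ FlatMod.freeMod (U : Scheme.{u}) n)
    (hn : FlatMor.fibreDimAt f x = (n : WithBot ℕ∞))
    (hdim : ringKrullDim (X.presheaf.stalk x) =
      ringKrullDim ((f.fiber (f x)).presheaf.stalk (f.asFiber x)) + ringKrullDim (Y.presheaf.stalk (f x))) :
    (f.stalkMap x).hom.Flat := by
  haveI : IsLocallyNoetherian X := LocallyOfFiniteType.isLocallyNoetherian f
  haveI : LocallyOfFinitePresentation (f.fiberToSpecResidueField (f x)) :=
    MorphismProperty.pullback_snd f (Y.fromSpecResidueField (f x)) inferInstance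
  have hs := asFiber_mem_smoothLocus f hd hxU e hn
  obtain ⟨W, hzW, hW⟩ := (SmoothPt12.smoothPt_iff_mem _ (f.asFiber x)).2 hs
  haveI := hW
  haveI h1 := SmoothReg17.isRegularLocalRing_stalk (W.ι ≫ f.fiberToSpecResidueField (f x)) ⟨f.asFiber x, hzW⟩
  haveI h2 : IsRegularLocalRing ((f.fiber (f x)).presheaf.stalk (f.asFiber x)) :=
    IsRegularLocalRing.of_ringEquiv (asIso (W.ι.stalkMap ⟨f.asFiber x, hzW⟩)).commRingCatIsoToRingEquiv.symm
  obtain ⟨e₀⟩ := Goren15.nonempty_asFiberEquiv f x
  letI := (f.stalkMap x).hom.toAlgebra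
  haveI : IsLocalHom (algebraMap (Y.presheaf.stalk (f x)) (X.presheaf.stalk x)) := f.toLRSHom.prop x
  haveI := hreg
  haveI : IsRegularLocalRing (X.presheaf.stalk x ⧸
      (maximalIdeal (Y.presheaf.stalk (f x))).map (algebraMap _ (X.presheaf.stalk x))) :=
    IsRegularLocalRing.of_ringEquiv e₀.symm
  have hdim' : ringKrullDim (X.presheaf.stalk x) = ringKrullDim (Y.presheaf.stalk (f x)) +
      ringKrullDim (X.presheaf.stalk x ⧸
        (maximalIdeal (Y.presheaf.stalk (f x))).map (algebraMap _ (X.presheaf.stalk x))) := by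
    rw [hdim, add_comm]
    congr 1
    exact (ringKrullDim_eq_of_ringEquiv e₀).symm
  haveI := isRegularLocalRing_of_fibre hdim'
  haveI := DepthLib.isCohenMacaulayLocalRing_of_isRegularLocalRing (R := X.presheaf.stalk x)
  exact Miracle4.flat_of_ringKrullDim_eq hdim'

end Groth.Agent.Omega12
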